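import Groth.Agent.FSch.K179.Iface

/-!
# The inverse system of a completion, functorially

* `un 𝓘 F n : F ⟶ (i_n)_* i_n^* F`, the quotient by `𝓘^(n+1)` (`isKQuot_un`), compatible with the transition maps
  (`un_ptr`);
* `toSysMap φ : toSys 𝔐 ⟶ toSys 𝔑`;
* `compIso : Formal.completion J F ≅ toSys (complMod 𝓘 F)` when `𝓘` is generated by `J`;
* `complModMap_of_un`: a morphism `φ : complMod 𝓘 F ⟶ complMod 𝓘 G` with `un F n ≫ (i_n)_* φ_n = v ≫ un G n`
  is `complModMap 𝓘 v`.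
-/

set_option autoImplicit false
universe u

open CategoryTheory CategoryTheory.Limits AlgebraicGeometry Opposite

namespace K179.CompSys

open FSch K179.Iface
open AlgebraicGeometry.Scheme.Modules
open Groth.Agent.Sga2lef.H96.ModSysRec Groth.Agent.Sga2lef.H96.ModSysPush
open Groth.Agent.Sga2lef.H96.ModSysFormal Groth.Agent.Sga2lef.H96.Transp
open Groth.Agent.FormalB.KQuot Groth.Agent.FormalB.TrKQuot Groth.Agent.FormalB.ModPow

variable {X : Scheme.{u}} (𝓘 : X.IdealSheafData)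

theorem complMod_e_eq (F : X.Modules) (n : ℕ) : (complMod 𝓘 F).e n =
    qq ((completionAlong X 𝓘).ι n) (completionToX X 𝓘 (n + 1)) (completionToX X 𝓘 n) (ι_toX 𝓘 n) F := by
  rw [complMod_e, complTransIso_app, ee_eq, e1_eq, e2_eq]
  rfl

/-- The canonical maps `F ⟶ (i_n)_* i_n^* F`. -/
noncomputable def un (F : X.Modules) (n : ℕ) : F ⟶ pm (complMod 𝓘 F) n :=
  (pullbackPushforwardAdjunction (completionToX X 𝓘 n)).unit.app F

theorem un_eq_homEquiv (F : X.Modules) (n : ℕ) : un 𝓘 F n =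
    (pullbackPushforwardAdjunction (completionToX X 𝓘 n)).homEquiv _ _ (𝟙 _) := by
  rw [Adjunction.homEquiv_unit, CategoryTheory.Functor.map_id]
  exact (Category.comp_id _).symm

theorem isKQuot_un {F : X.Modules} (hF : Coh.IsQCoh F) (n : ℕ) : IsKQuot (𝓘 ^ (n + 1)) (un 𝓘 F n) :=
  isKQuot_kπ (𝓘 ^ (n + 1)) hF

@[reassoc]
theorem un_ptr (F : X.Modules) (n : ℕ) : un 𝓘 F (n + 1) ≫ ptr (complMod 𝓘 F) n = un 𝓘 F n := by
  rw [un_eq_homEquiv, un_eq_homEquiv, ptr_eq]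
  refine (homEquiv_tr ((completionAlong X 𝓘).ι n) (completionToX X 𝓘 (n + 1))
      (completionToX X 𝓘 n) (ι_toX 𝓘 n) ((complMod 𝓘 F).e n).hom (𝟙 _) (𝟙 _)).2 ?_
  rw [complMod_e_eq]
  exact (congrArg (fun t => t ≫ (qq ((completionAlong X 𝓘).ι n) (completionToX X 𝓘 (n + 1))
    (completionToX X 𝓘 n) (ι_toX 𝓘 n) F).hom)
      ((Scheme.Modules.pullback ((completionAlong X 𝓘).ι n)).map_id _)).trans
        ((Category.id_comp _).trans (Category.comp_id _).symm)

section Map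

variable {𝓘} {𝔐 𝔑 𝔓 : ModSys (completionAlong X 𝓘)}

/-- The direct image of the component of a morphism of systems. -/
noncomputable def pmMap (φ : 𝔐 ⟶ 𝔑) (n : ℕ) : pm 𝔐 n ⟶ pm 𝔑 n :=
  (pushforward (completionToX X 𝓘 n)).map (φ.app n)

theorem ptr_pmMap (φ : 𝔐 ⟶ 𝔑) (n : ℕ) : ptr 𝔐 n ≫ pmMap φ n = pmMap φ (n + 1) ≫ ptr 𝔑 n := by
  have h1 : ptr 𝔐 n ≫ pmMap φ n = tr ((completionAlong X 𝓘).ι n) (completionToX X 𝓘 (n + 1))
      (completionToX X 𝓘 n) (ι_toX 𝓘 n) ((𝔐.e n).hom ≫ φ.app n) := (tr_comp _ _ _ _ _ _).symm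
  have h2 : pmMap φ (n + 1) ≫ ptr 𝔑 n = tr ((completionAlong X 𝓘).ι n) (completionToX X 𝓘 (n + 1))
      (completionToX X 𝓘 n) (ι_toX 𝓘 n)
        ((Scheme.Modules.pullback ((completionAlong X 𝓘).ι n)).map (φ.app (n + 1)) ≫ (𝔑.e n).hom) := by
    rw [ptr_eq, tr, tr, Adjunction.homEquiv_naturality_left, Functor.map_comp, Category.assoc]
    rfl
  rw [h1, h2, φ.comm n]

/-- The morphism of inverse systems of a morphism of systems of modules. -/
noncomputable def toSysMap (φ : 𝔐 ⟶ 𝔑) : toSys 𝔐 ⟶ toSys 𝔑 :=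
  NatTrans.ofOpSequence (pmMap φ) fun n => by
    have h1 : (toSys 𝔐).map (homOfLE (Nat.le_add_right n 1)).op = ptr 𝔐 n := toSys_map_succ 𝔐 n
    have h2 : (toSys 𝔑).map (homOfLE (Nat.le_add_right n 1)).op = ptr 𝔑 n := toSys_map_succ 𝔑 n
    rw [h1, h2]
    exact ptr_pmMap φ n

theorem toSysMap_app (φ : 𝔐 ⟶ 𝔑) (n : ℕ) : (toSysMap φ).app (op n) = pmMap φ n := rfl

end Map

/-- A morphism of completions induced by `v` on the quotients is the completion of `v`. -/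
theorem complModMap_of_un {F G : X.Modules} (φ : complMod 𝓘 F ⟶ complMod 𝓘 G) (v : F ⟶ G)
    (h : ∀ n, un 𝓘 F n ≫ pmMap φ n = v ≫ un 𝓘 G n) : φ = complModMap 𝓘 v := by
  apply ModSys.Hom.ext
  funext n
  have h1 := h n
  have e1 : un 𝓘 F n ≫ pmMap φ n =
      (pullbackPushforwardAdjunction (completionToX X 𝓘 n)).homEquiv _ _ (φ.app n) :=
    ((pullbackPushforwardAdjunction (completionToX X 𝓘 n)).homEquiv_unit (f := φ.app n)).symm
  have e2 : v ≫ un 𝓘 G n = (pullbackPushforwardAdjunction (completionToX X 𝓘 n)).homEquiv _ _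
      ((Scheme.Modules.pullback (completionToX X 𝓘 n)).map v) := by
    rw [Adjunction.homEquiv_unit]
    exact (pullbackPushforwardAdjunction (completionToX X 𝓘 n)).unit.naturality v
  rw [e1, e2] at h1
  exact ((pullbackPushforwardAdjunction (completionToX X 𝓘 n)).homEquiv _ _).injective h1

/-- Naturality of `un`. -/
@[reassoc]
theorem un_pmMap {F G : X.Modules} (v : F ⟶ G) (n : ℕ) :
    un 𝓘 F n ≫ pmMap (complModMap 𝓘 v) n = v ≫ un 𝓘 G n :=
  ((pullbackPushforwardAdjunction (completionToX X 𝓘 n)).unit.naturality v).symm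

theorem un_toSys (F : X.Modules) (n : ℕ) :
    un 𝓘 F (n + 1) ≫ (toSys (complMod 𝓘 F)).map (homOfLE (Nat.le_succ n)).op = un 𝓘 F n := by
  have h2 : (toSys (complMod 𝓘 F)).map (homOfLE (Nat.le_succ n)).op = ptr (complMod 𝓘 F) n :=
    toSys_map_succ _ n
  rw [h2]
  exact un_ptr 𝓘 F n

section Formal

variable {𝓘} {A : Type u} [CommRing A] [X.Over (Spec (CommRingCat.of A))] {J : Ideal A} (h : IsGenBy J 𝓘)

/-- The completion as an inverse system. -/
noncomputable def compIso {F : X.Modules} (hF : Coh.IsQCoh F) :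
    Formal.completion J F ≅ toSys (complMod 𝓘 F) :=
  completionIso J (G := toSys (complMod 𝓘 F)) (un 𝓘 F)
    (fun n => (h.pow (n + 1)).isModPow (isKQuot_un 𝓘 hF n)) (un_toSys 𝓘 F)

@[reassoc]
theorem cπ_compIso {F : X.Modules} (hF : Coh.IsQCoh F) (n : ℕ) :
    cπ J F n ≫ (compIso h hF).hom.app (op n) = un 𝓘 F n :=
  cπ_completionDesc J (G := toSys (complMod 𝓘 F)) (un 𝓘 F)
    (fun n => ((h.pow (n + 1)).isModPow (isKQuot_un 𝓘 hF n)).smul_comp) (un_toSys 𝓘 F) n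

end Formal

end K179.CompSys
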