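import Groth.Prelude.Def_FSch5
import Groth.Agent.Sga2lef.H96.ModSysPush

/-!
# Direct image to a scheme of the module of a system

For a compatible family `p k : X k ⟶ Y` and `T = toSchemeMor 𝔛 h p hp : 𝔛 ⟶ Y`:
* `TP` is `T_*` with values in `Y.Modules`, `cmp k : (p k)_* ⟶ (u_k)_* ⋙ T_*` is invertible;
* `pushIso : T_* (lim_k (u_k)_* G_k) ≅ lim_k (p k)_* G_k`;
* for a completion and a system `𝔐` of modules on it: `towModIso : tow = ModSysPush.toSys 𝔐`,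
  `pushRealMod : T_* (𝔐.realMod) ≅ limit (toSys 𝔐)`.
-/
set_option autoImplicit false
universe u
open CategoryTheory CategoryTheory.Limits AlgebraicGeometry Opposite TopologicalSpace
namespace K179.PushLim
open FSch

variable (𝔛 : Sys.{u}) (h : 𝔛.IsFormal) {Y : Scheme.{u}} (p : ∀ n, 𝔛.X n ⟶ Y) (hp : ∀ n, 𝔛.ι n ≫ p (n + 1) = p n)

/-- transition -/
noncomputable def trans {G : ∀ k, (𝔛.X k).Modules}
    (t : ∀ k, G (k + 1) ⟶ (Scheme.Modules.pushforward (𝔛.ι k)).obj (G k)) (k : ℕ) :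
    (Scheme.Modules.pushforward (p (k + 1))).obj (G (k + 1)) ⟶ (Scheme.Modules.pushforward (p k)).obj (G k) :=
  (Scheme.Modules.pushforward (p (k + 1))).map (t k) ≫
    (Scheme.Modules.pushforwardComp (𝔛.ι k) (p (k + 1))).hom.app (G k) ≫
      (Scheme.Modules.pushforwardCongr (hp k)).hom.app (G k)

/-- `T_*` with values in `Y.Modules`. -/
noncomputable def TP : ModF 𝔛 h ⥤ Y.Modules := (toSchemeMor 𝔛 h p hp).push

/-- the direct image along the level, with source `(X k).Modules`. -/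
noncomputable def LP (k : ℕ) : (𝔛.X k).Modules ⥤ ModF 𝔛 h := (levelMor 𝔛 h k).push

/-- the comparison. -/
noncomputable def cmp (k : ℕ) : Scheme.Modules.pushforward (p k) ⟶ LP 𝔛 h k ⋙ TP 𝔛 h p hp :=
  schPushCompare 𝔛 h p hp k

theorem cmp_app (k : ℕ) (G : (𝔛.X k).Modules) (U : Y.Opens) (s : Γ(G, p k ⁻¹ᵁ U)) :
    ((cmp 𝔛 h p hp k).app G).app U s =
      G.presheaf.map (homOfLE (lvU_p 𝔛 h p hp k U).ge).op s := by
  rfl

instance isIso_cmp_app (k : ℕ) (G : (𝔛.X k).Modules) : IsIso ((cmp 𝔛 h p hp k).app G) := by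
  rw [Scheme.Modules.Hom.isIso_iff_isIso_app]
  intro U
  have e : ((cmp 𝔛 h p hp k).app G).app U = G.presheaf.map (homOfLE (lvU_p 𝔛 h p hp k U).ge).op := by
    ext s
    rfl
  rw [e]
  have : IsIso (homOfLE (lvU_p 𝔛 h p hp k U).ge) := 
    ⟨homOfLE (lvU_p 𝔛 h p hp k U).le, Subsingleton.elim _ _, Subsingleton.elim _ _⟩
  exact Functor.map_isIso G.presheaf (homOfLE (lvU_p 𝔛 h p hp k U).ge).op

instance isIso_cmp (k : ℕ) : IsIso (cmp 𝔛 h p hp k) := NatIso.isIso_of_isIso_app _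


variable {G : ∀ k, (𝔛.X k).Modules} (t : ∀ k, G (k + 1) ⟶ (Scheme.Modules.pushforward (𝔛.ι k)).obj (G k))

theorem res_res {X : Scheme.{u}} (M : X.Modules) {U V W : X.Opensᵒᵖ} (a : U ⟶ V) (b : V ⟶ W) (c : U ⟶ W)
    (x : M.presheaf.obj U) : M.presheaf.map b (M.presheaf.map a x) = M.presheaf.map c x := by
  rw [← Subsingleton.elim (a ≫ b) c, M.presheaf.map_comp]
  rfl

theorem app_res {X : Scheme.{u}} {M N : X.Modules} (φ : M ⟶ N) {U V : X.Opens} (a : U ⟶ V) (x : Γ(M, V)) :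
    φ.app U (M.presheaf.map a.op x) = N.presheaf.map a.op (φ.app V x) := by
  have h := φ.mapPresheaf.naturality a.op
  exact congr($h x)

/-- compatibility with transitions. -/
theorem cmp_trans (k : ℕ) :
    trans 𝔛 p hp t k ≫ (cmp 𝔛 h p hp k).app (G k) =
      (cmp 𝔛 h p hp (k + 1)).app (G (k + 1)) ≫
        (TP 𝔛 h p hp).map ((levelMor 𝔛 h (k + 1)).push.map (t k) ≫ (pushCompare 𝔛 h k).app (G k)) := by
  ext U s
  have e1 : ((trans 𝔛 p hp t k ≫ (cmp 𝔛 h p hp k).app (G k)).app U) s =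
      (G k).presheaf.map (homOfLE (lvU_p 𝔛 h p hp k U).ge).op
        ((G k).presheaf.map (eqToHom (by rw [← hp k]; rfl)).op ((t k).app (p (k + 1) ⁻¹ᵁ U) s)) := rfl
  have e2 : (((cmp 𝔛 h p hp (k + 1)).app (G (k + 1)) ≫
        (TP 𝔛 h p hp).map ((levelMor 𝔛 h (k + 1)).push.map (t k) ≫ (pushCompare 𝔛 h k).app (G k))).app U) s =
      (G k).presheaf.map (homOfLE (𝔛.lvU_le h k (p 0 ⁻¹ᵁ U))).op
        ((t k).app (𝔛.lvU h (k + 1) (p 0 ⁻¹ᵁ U))
          ((G (k + 1)).presheaf.map (homOfLE (lvU_p 𝔛 h p hp (k + 1) U).ge).op s)) := rfl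
  refine e1.trans (Eq.trans ?_ e2.symm)
  have hle : 𝔛.lvU h k (p 0 ⁻¹ᵁ U) ≤ 𝔛.ι k ⁻¹ᵁ (p (k + 1) ⁻¹ᵁ U) := by
    have h1 := (lvU_p 𝔛 h p hp k U).ge
    rw [← hp k] at h1
    exact h1
  refine Eq.trans ?_ (congrArg (fun z => (G k).presheaf.map (homOfLE (𝔛.lvU_le h k (p 0 ⁻¹ᵁ U))).op z)
    (app_res (t k) (homOfLE (lvU_p 𝔛 h p hp (k + 1) U).ge) s).symm)
  exact (res_res (G k) _ _ (homOfLE hle).op _).trans (res_res (G k) _ _ (homOfLE hle).op _).symm

/-- the tower `(p k)_* G k` of modules on `Y`. -/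
noncomputable def tow : ℕᵒᵖ ⥤ Y.Modules :=
  Functor.ofOpSequence (X := fun k => (Scheme.Modules.pushforward (p k)).obj (G k)) (trans 𝔛 p hp t)

theorem tow_map_succ (k : ℕ) :
    (tow 𝔛 p hp t).map (homOfLE (Nat.le_add_right k 1)).op = trans 𝔛 p hp t k :=
  Functor.ofOpSequence_map_homOfLE_succ _ k

/-- The tower on `Y` is the direct image of the tower on the formal scheme. -/
noncomputable def towHom : tow 𝔛 p hp t ⟶ levelSysOf 𝔛 h G t ⋙ TP 𝔛 h p hp :=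
  NatTrans.ofOpSequence (fun k => (cmp 𝔛 h p hp k).app (G k)) fun k => by
    rw [tow_map_succ, Functor.comp_map, levelSysOf_map_succ]
    exact cmp_trans 𝔛 h p hp t k

instance isIso_towHom : IsIso (towHom 𝔛 h p hp t) := by
  refine @NatIso.isIso_of_isIso_app _ _ _ _ _ _ _ fun k => ?_
  exact isIso_cmp_app 𝔛 h p hp k.unop (G k.unop)

noncomputable instance : PreservesLimitsOfSize.{0, 0} (TP 𝔛 h p hp) :=
  (toSchemeMor 𝔛 h p hp).adj.rightAdjoint_preservesLimits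

/-- `T_* lim (u_k)_* G_k = lim (p k)_* G_k`. -/
noncomputable def pushIso : (TP 𝔛 h p hp).obj (realLim 𝔛 h G t) ≅ limit (tow 𝔛 p hp t) :=
  preservesLimitIso (TP 𝔛 h p hp) (levelSysOf 𝔛 h G t) ≪≫ (lim.mapIso (asIso (towHom 𝔛 h p hp t))).symm

theorem pushIso_inv_proj (k : ℕ) :
    (pushIso 𝔛 h p hp t).inv ≫ (TP 𝔛 h p hp).map (realProj 𝔛 h G t k) =
      limit.π (tow 𝔛 p hp t) (op k) ≫ (cmp 𝔛 h p hp k).app (G k) := by
  have h1 : (preservesLimitIso (TP 𝔛 h p hp) (levelSysOf 𝔛 h G t)).inv ≫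
      (TP 𝔛 h p hp).map (limit.π (levelSysOf 𝔛 h G t) (op k)) =
        limit.π (levelSysOf 𝔛 h G t ⋙ TP 𝔛 h p hp) (op k) :=
    preservesLimitIso_inv_π _ _ _
  have h2 : (lim.mapIso (asIso (towHom 𝔛 h p hp t))).hom ≫ limit.π (levelSysOf 𝔛 h G t ⋙ TP 𝔛 h p hp) (op k) =
      limit.π (tow 𝔛 p hp t) (op k) ≫ (cmp 𝔛 h p hp k).app (G k) := limMap_π _ _
  rw [← h2, ← h1]
  rfl

section Completion

open Groth.Agent.Sga2lef.H96

variable {X : Scheme.{u}} {𝓘 : X.IdealSheafData} (hX : (completionAlong X 𝓘).IsFormal)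
  (𝔐 : ModSys (completionAlong X 𝓘))

/-- `T_*` for the completion of `X`. -/
noncomputable abbrev TC : ModF (completionAlong X 𝓘) hX ⥤ X.Modules :=
  TP (completionAlong X 𝓘) hX (completionToX X 𝓘) (completionToX_comm X 𝓘)

theorem trans_toPush (k : ℕ) :
    trans (completionAlong X 𝓘) (completionToX X 𝓘) (completionToX_comm X 𝓘) 𝔐.toPush k =
      ModSysPush.ptr 𝔐 k := by
  rfl

theorem tow_eq_toSys :
    tow (completionAlong X 𝓘) (completionToX X 𝓘) (completionToX_comm X 𝓘) 𝔐.toPush =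
      ModSysPush.toSys 𝔐 := by
  rfl

/-- `T_* (𝔐.realMod) = lim_k (i_k)_* 𝔐_k` for the completion of `X`. -/
noncomputable def pushRealMod : (TC hX).obj (𝔐.realMod hX) ≅ limit (ModSysPush.toSys 𝔐) :=
  pushIso (completionAlong X 𝓘) hX (completionToX X 𝓘) (completionToX_comm X 𝓘) 𝔐.toPush

theorem pushRealMod_inv_proj (k : ℕ) :
    (pushRealMod hX 𝔐).inv ≫ (TC hX).map (realProj (completionAlong X 𝓘) hX 𝔐.F 𝔐.toPush k) =
      limit.π (ModSysPush.toSys 𝔐) (op k) ≫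
        (cmp (completionAlong X 𝓘) hX (completionToX X 𝓘) (completionToX_comm X 𝓘) k).app (𝔐.F k) :=
  pushIso_inv_proj (completionAlong X 𝓘) hX (completionToX X 𝓘) (completionToX_comm X 𝓘) 𝔐.toPush k

end Completion

end K179.PushLim
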