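import Groth.Prelude.Def_FSch5

/-!
# Functoriality of `realMod`
-/

set_option autoImplicit false
universe u

open CategoryTheory CategoryTheory.Limits AlgebraicGeometry Opposite

namespace K179.RealMod

open FSch

variable {𝔛 : Sys.{u}} (h : 𝔛.IsFormal)

/-- Maps into `lim_k (u_k)_* G_k` are determined by their components. -/
theorem hom_ext {G : ∀ k, (𝔛.X k).Modules}
    {t : ∀ k, G (k + 1) ⟶ (Scheme.Modules.pushforward (𝔛.ι k)).obj (G k)} {W : ModF 𝔛 h}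
    {f g : W ⟶ realLim 𝔛 h G t}
    (w : ∀ k, f ≫ realProj 𝔛 h G t k = g ≫ realProj 𝔛 h G t k) : f = g :=
  limit.hom_ext fun k => w k.unop

/-- The projections of `realMod`. -/
noncomputable abbrev proj (𝔐 : ModSys 𝔛) (k : ℕ) :
    𝔐.realMod h ⟶ (levelMor 𝔛 h k).push.obj (𝔐.F k) := realProj 𝔛 h 𝔐.F 𝔐.toPush k

theorem realModMap_proj {𝔐 𝔑 : ModSys 𝔛} (φ : 𝔐 ⟶ 𝔑) (k : ℕ) :
    ModSys.realModMap h φ ≫ proj h 𝔑 k = proj h 𝔐 k ≫ (levelMor 𝔛 h k).push.map (φ.app k) :=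
  realLimMap_realProj 𝔛 h φ.app (ModSys.Hom.toPush_comm φ) k

theorem realModMap_id (𝔐 : ModSys 𝔛) : ModSys.realModMap h (𝟙 𝔐) = 𝟙 _ := by
  refine hom_ext h fun k => ?_
  refine (realModMap_proj h (𝟙 𝔐) k).trans ?_
  have e : (levelMor 𝔛 h k).push.map ((𝟙 𝔐 : 𝔐 ⟶ 𝔐).app k) = 𝟙 _ :=
    (levelMor 𝔛 h k).push.map_id _
  rw [e, Category.comp_id]
  exact (Category.id_comp _).symm

theorem realModMap_comp {𝔐 𝔑 𝔓 : ModSys 𝔛} (φ : 𝔐 ⟶ 𝔑) (ψ : 𝔑 ⟶ 𝔓) :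
    ModSys.realModMap h (φ ≫ ψ) = ModSys.realModMap h φ ≫ ModSys.realModMap h ψ := by
  refine hom_ext h fun k => ?_
  refine (realModMap_proj h (φ ≫ ψ) k).trans ?_
  have e : (levelMor 𝔛 h k).push.map ((φ ≫ ψ).app k) =
      (levelMor 𝔛 h k).push.map (φ.app k) ≫ (levelMor 𝔛 h k).push.map (ψ.app k) :=
    (levelMor 𝔛 h k).push.map_comp _ _
  rw [e, ← Category.assoc, ← realModMap_proj, Category.assoc, ← realModMap_proj]
  exact (Category.assoc _ _ _).symm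

/-- Isomorphic systems have isomorphic modules. -/
noncomputable def realModIso {𝔐 𝔑 : ModSys 𝔛} (e : 𝔐 ≅ 𝔑) : 𝔐.realMod h ≅ 𝔑.realMod h where
  hom := ModSys.realModMap h e.hom
  inv := ModSys.realModMap h e.inv
  hom_inv_id := by rw [← realModMap_comp, e.hom_inv_id, realModMap_id]
  inv_hom_id := by rw [← realModMap_comp, e.inv_hom_id, realModMap_id]

end K179.RealMod
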