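import Groth.Agent.FSch.K179.Iface
import Groth.Agent.FSch.K179.RealMod
import Groth.Agent.S0799
import Groth.Agent.S3854
import Groth.Agent.PerfC.Supp
import Groth.Agent.Sga67.ClosedPush
import Groth.Agent.Ega1.SuppTensorMod
import Groth.Agent.Ega3B.Devissage
import Groth.Agent.Ega1.ProperSupp
import Mathlib.AlgebraicGeometry.Morphisms.FiniteType

/-!
# Algebraizable modules: criterion by the support of the level zero, extensions
-/

set_option autoImplicit false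
universe u

open CategoryTheory CategoryTheory.Limits AlgebraicGeometry Opposite

namespace K179.Algz

open FSch K179.Iface K179.RealMod
open Groth.Agent.Sga2lef.H96.ModSysFormal Groth.Agent.Sga2lef.H96.ModSysPush
open Groth.Agent

variable {A : Type u} [CommRing A] {X : Scheme.{u}} (f : X ⟶ Spec (CommRingCat.of A))
  (𝓘 : X.IdealSheafData) (hX : (FSch.completionAlong X 𝓘).IsFormal)

/-- Algebraizable modules on the completion. -/
def IsAlgz (𝔉 : ModF (completionAlong X 𝓘) hX) : Prop :=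
  ∃ G : X.Modules, Coh.IsCoh G ∧ ClSub.IsProperOver f (CohB1.support G) ∧
        Nonempty (𝔉 ≅ (FSch.complMod 𝓘 G).realMod hX)

variable {f 𝓘 hX}

theorem IsAlgz.of_iso {𝔉 𝔊 : ModF (completionAlong X 𝓘) hX} (h : IsAlgz f 𝓘 hX 𝔉) (e : 𝔉 ≅ 𝔊) :
    IsAlgz f 𝓘 hX 𝔊 := by
  obtain ⟨G, h1, h2, ⟨i⟩⟩ := h
  exact ⟨G, h1, h2, ⟨e.symm ≪≫ i⟩⟩

/-- The levels of a completion are coherent. -/
theorem isCoh_complMod {G : X.Modules} (hG : Coh.IsCoh G) : (complMod 𝓘 G).IsCoh := by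
  intro n
  exact FormalB.PullCoh.isCoh_pullback _ hG

/-- Grothendieck's existence theorem for systems of modules on the completion whose level zero has support proper
over the base. -/
theorem isAlgz_realMod [IsNoetherianRing A] (J : Ideal A) [IsAdicComplete J A] [IsSeparated f]
    [LocallyOfFiniteType f] [QuasiCompact f] (h𝓘 : 𝓘 = (FSch.idealSpec A J).comap f)
    (𝔐 : ModSys (completionAlong X 𝓘)) (h𝔐 : 𝔐.IsCoh)
    (hs : ClSub.IsProperOver f (CohB1.support (pm 𝔐 0))) : IsAlgz f 𝓘 hX (𝔐.realMod hX) := by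
  let _ : X.Over (Spec (CommRingCat.of A)) := ⟨f⟩
  have hgen : IsGenBy J 𝓘 := by
    rw [h𝓘]
    exact isGenBy_comap J
  have h1 : IsSeparated (X ↘ Spec (CommRingCat.of A)) := ‹IsSeparated f›
  have h2 : LocallyOfFiniteType (X ↘ Spec (CommRingCat.of A)) := ‹LocallyOfFiniteType f›
  have h3 : QuasiCompact (X ↘ Spec (CommRingCat.of A)) := ‹QuasiCompact f›
  obtain ⟨M, hM, hMs, he⟩ := S0799.result A J X (toSys 𝔐) (isCohFormal_toSys hgen 𝔐 h𝔐) hs
  obtain ⟨e⟩ := nonempty_iso hgen 𝔐 M hM.1 he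
  rw [← complMod_eq_completionMod] at e
  exact ⟨M, hM, hMs, ⟨realModIso hX e.symm⟩⟩

/-- The inverse image to a level of the module of a coherent system. -/
noncomputable def levelIso (h36 : P13336.{u}) {𝔛 : Sys.{u}} (h𝔛 : 𝔛.IsLocNoethFormal) (𝔐 : ModSys 𝔛)
    (h𝔐 : 𝔐.IsCoh) (k : ℕ) : (levelMor 𝔛 h𝔛.1 k).pull.obj (𝔐.realMod h𝔛.1) ≅ 𝔐.F k :=
  @asIso _ _ _ _ _ (h36 𝔛 h𝔛 𝔐 h𝔐 k)

/-- Supports of the level zero of a right exact sequence. -/
theorem support_level_subset {𝔛 : Sys.{u}} (h : 𝔛.IsFormal) (k : ℕ) (S : ShortComplex (ModF 𝔛 h))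
    (hS : S.ShortExact) :
    CohB1.support (X := 𝔛.X k) ((levelMor 𝔛 h k).pull.obj S.X₂) ⊆
      CohB1.support (X := 𝔛.X k) ((levelMor 𝔛 h k).pull.obj S.X₁) ∪
        CohB1.support (X := 𝔛.X k) ((levelMor 𝔛 h k).pull.obj S.X₃) := by
  let L := (levelMor 𝔛 h k).pull
  have hadj := (levelMor 𝔛 h k).adj
  have hl : L.IsLeftAdjoint := hadj.isLeftAdjoint
  have hz : L.PreservesZeroMorphisms := inferInstance
  have he : Epi S.g := hS.epi_g
  have hex : (S.map L).Exact := hS.exact.map_of_epi_of_preservesCokernel L he inferInstance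
  exact PerfC.Supp.support_exact (X := 𝔛.X k) hex

open Groth.Agent.Sga67.ClosedPush in
theorem support_level_algz (h36 : P13336.{u}) (h𝔛 : (completionAlong X 𝓘).IsLocNoethFormal)
    {𝔉 : ModF (completionAlong X 𝓘) h𝔛.1} {G : X.Modules} (hG : Coh.IsCoh G)
    (e : 𝔉 ≅ (complMod 𝓘 G).realMod h𝔛.1) (k : ℕ) :
    CohB1.support (X := (completionAlong X 𝓘).X k) ((levelMor (completionAlong X 𝓘) h𝔛.1 k).pull.obj 𝔉) =
      (completionToX X 𝓘 k) ⁻¹' CohB1.support G := by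
  have h1 : CohB1.support (X := (completionAlong X 𝓘).X k)
      ((levelMor (completionAlong X 𝓘) h𝔛.1 k).pull.obj 𝔉) =
        CohB1.support ((complMod 𝓘 G).F k) :=
    CohqB.DevSupport.support_congr (X := (completionAlong X 𝓘).X k)
      ((levelMor (completionAlong X 𝓘) h𝔛.1 k).pull.mapIso e ≪≫
        levelIso h36 h𝔛 (complMod 𝓘 G) (isCoh_complMod hG) k)
  rw [h1]
  exact Ega1.SuppTensorMod.isFT_pullback_support (completionToX X 𝓘 k) G hG.2

/-- Extensions of algebraizable modules are algebraizable (`S13645` modulo `S13335`, `S13336`). -/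
theorem isAlgz_of_shortExact (h35 : P13335.{u}) (h36 : P13336.{u}) [IsNoetherianRing A] (J : Ideal A)
    [IsAdicComplete J A] [IsSeparated f]
    [LocallyOfFiniteType f] [QuasiCompact f] (h𝓘 : 𝓘 = (FSch.idealSpec A J).comap f)
    (S : ShortComplex (ModF (completionAlong X 𝓘) hX)) (hS : S.ShortExact)
    (h₂ : IsCohF _ hX S.X₂) (a₁ : IsAlgz f 𝓘 hX S.X₁) (a₃ : IsAlgz f 𝓘 hX S.X₃) : IsAlgz f 𝓘 hX S.X₂ := by
  have : IsNoetherianRing (CommRingCat.of A) := ‹IsNoetherianRing A›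
  have hXn : IsLocallyNoetherian X := LocallyOfFiniteType.isLocallyNoetherian f
  have h𝔛 : (completionAlong X 𝓘).IsLocNoethFormal := S3854.result X 𝓘
  obtain ⟨𝔐, h𝔐, ⟨e₂⟩⟩ := h35 _ h𝔛 S.X₂ h₂
  obtain ⟨G₁, c₁, s₁, ⟨e₁⟩⟩ := a₁
  obtain ⟨G₃, c₃, s₃, ⟨e₃⟩⟩ := a₃
  refine IsAlgz.of_iso ?_ e₂.symm
  refine isAlgz_realMod J h𝓘 𝔐 h𝔐 ?_
  have h1 : CohB1.support (𝔐.F 0) ⊆
      (completionToX X 𝓘 0) ⁻¹' CohB1.support G₁ ∪ (completionToX X 𝓘 0) ⁻¹' CohB1.support G₃ := by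
    rw [← support_level_algz h36 h𝔛 c₁ e₁ 0, ← support_level_algz h36 h𝔛 c₃ e₃ 0]
    have h2 : CohB1.support (X := (completionAlong X 𝓘).X 0)
        ((levelMor (completionAlong X 𝓘) h𝔛.1 0).pull.obj S.X₂) = CohB1.support (𝔐.F 0) :=
      CohqB.DevSupport.support_congr (X := (completionAlong X 𝓘).X 0)
        ((levelMor (completionAlong X 𝓘) h𝔛.1 0).pull.mapIso e₂ ≪≫ levelIso h36 h𝔛 𝔐 h𝔐 0)
    rw [← h2]
    exact support_level_subset h𝔛.1 0 S hS
  refine FormalA.ProperOver.isProperOver_subset f (Ega1.ProperSupp.isProperOver_union _ f s₁ s₃)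
    (Ega3B.Devissage.isClosed_support (isCoh_pm 𝔐 0 (h𝔐 0))) ?_
  have hci : IsClosedImmersion (completionToX X 𝓘 0) := inferInstanceAs (IsClosedImmersion (𝓘 ^ (0 + 1)).subschemeι)
  have h3 : CohB1.support (pm 𝔐 0) = (completionToX X 𝓘 0).base '' CohB1.support (𝔐.F 0) :=
    Sga67.ClosedPush.support_pushforward (completionToX X 𝓘 0) (𝔐.F 0)
  rw [h3]
  rintro _ ⟨x, hx, rfl⟩
  exact h1 hx

end K179.Algz
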