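import Groth.Agent.FSch.K179.Algz
import Groth.Agent.FSch.K179.CompSys
import Groth.Agent.S0798
import Groth.Agent.Sga67.CohBasic

/-!
# Kernels, images and cokernels of algebraizable modules
-/

set_option autoImplicit false
universe v u

open CategoryTheory CategoryTheory.Limits AlgebraicGeometry Opposite

namespace K179.AlgzKer

/-- Kernel, image and cokernel from an epi-mono factorization with known kernel and cokernel. -/
theorem nonempty_iso_of_factor {C : Type u} [Category.{v} C] [Abelian C] {A B A' B' : C} (u : A ⟶ B)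
    (e₁ : A ≅ A') (e₂ : B ≅ B') {K I Q : C} (k : K ⟶ A') (p : A' ⟶ I) (i : I ⟶ B') (c : B' ⟶ Q)
    (w₁ : k ≫ p = 0) (w₂ : i ≫ c = 0) (h₁ : (ShortComplex.mk k p w₁).ShortExact)
    (h₂ : (ShortComplex.mk i c w₂).ShortExact) (hu : e₁.inv ≫ u ≫ e₂.hom = p ≫ i) :
    Nonempty (kernel u ≅ K) ∧ Nonempty (Abelian.image u ≅ I) ∧ Nonempty (cokernel u ≅ Q) := by
  have hm1 : Mono k := h₁.mono_f
  have he1 : Epi p := h₁.epi_g
  have hm2 : Mono i := h₂.mono_f
  have he2 : Epi c := h₂.epi_g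
  have huu : u = e₁.hom ≫ p ≫ i ≫ e₂.inv := by
    rw [← Category.assoc p, ← hu]
    simp
  subst huu
  refine ⟨⟨?_⟩, ⟨?_⟩, ⟨?_⟩⟩
  · refine kernelIsIsoComp e₁.hom (p ≫ i ≫ e₂.inv) ≪≫ kernelCompMono p (i ≫ e₂.inv) ≪≫ ?_
    exact (kernelIsKernel p).conePointUniqueUpToIso h₁.fIsKernel
  · have hse : StrongEpi (e₁.hom ≫ p) := strongEpi_of_epi _
    exact Abelian.imageIsoImage _ ≪≫ (image.isoStrongEpiMono (f := e₁.hom ≫ p ≫ i ≫ e₂.inv)
      (e₁.hom ≫ p) (i ≫ e₂.inv) (by simp)).symm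
  · refine cokernelIsoOfEq (f := e₁.hom ≫ p ≫ i ≫ e₂.inv) (g := (e₁.hom ≫ p) ≫ i ≫ e₂.inv) (by simp) ≪≫
      cokernelEpiComp (e₁.hom ≫ p) (i ≫ e₂.inv) ≪≫ cokernelCompIsIso i e₂.inv ≪≫ ?_
    exact (cokernelIsCokernel i).coconePointUniqueUpToIso h₂.gIsCokernel

open FSch K179.Iface K179.RealMod K179.Algz K179.CompSys
open Groth.Agent.Sga2lef.H96.ModSysFormal Groth.Agent.Sga2lef.H96.ModSysPush Groth.Agent.FormalB.ModPow
open Groth.Agent

variable {X : Scheme.{u}} (𝓘 : X.IdealSheafData)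

theorem complModMap_comp {F G H : X.Modules} (v : F ⟶ G) (w : G ⟶ H) :
    complModMap 𝓘 (v ≫ w) = complModMap 𝓘 v ≫ complModMap 𝓘 w := by
  apply ModSys.Hom.ext
  funext n
  exact (Scheme.Modules.pullback (completionToX X 𝓘 n)).map_comp v w

variable {𝓘} (hX : (completionAlong X 𝓘).IsFormal)

/-- The completed module. -/
noncomputable abbrev hat (𝓘 : X.IdealSheafData) (hX : (completionAlong X 𝓘).IsFormal) (F : X.Modules) :
    ModF (completionAlong X 𝓘) hX := (complMod 𝓘 F).realMod hX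

/-- The completion of a morphism. -/
noncomputable abbrev hatMap {F G : X.Modules} (v : F ⟶ G) : hat 𝓘 hX F ⟶ hat 𝓘 hX G :=
  ModSys.realModMap hX (complModMap 𝓘 v)

theorem hatMap_comp {F G H : X.Modules} (v : F ⟶ G) (w : G ⟶ H) :
    hatMap hX (v ≫ w) = hatMap hX v ≫ hatMap hX w := by
  unfold hatMap
  rw [complModMap_comp, realModMap_comp]

/-- The kernel-image short exact sequence. -/
theorem shortExact_kernel_image {C : Type u} [Category.{v} C] [Abelian C] {A B : C} (v : A ⟶ B) :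
    (ShortComplex.mk (kernel.ι v) (Abelian.factorThruImage v) (by
      rw [← cancel_mono (Abelian.image.ι v), Category.assoc, Abelian.image.fac, kernel.condition,
        zero_comp])).ShortExact where
  exact := by
    apply ShortComplex.exact_of_f_is_kernel
    refine KernelFork.IsLimit.ofι _ _ (fun {W} g hg => kernel.lift v g (by
      rw [← Abelian.image.fac v, ← Category.assoc]
      dsimp at hg
      rw [hg, zero_comp])) (fun g hg => kernel.lift_ι _ _ _) (fun g hg m hm => by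
        rw [← cancel_mono (kernel.ι v), hm, kernel.lift_ι])
  mono_f := by dsimp; infer_instance
  epi_g := by dsimp; infer_instance

theorem shortExact_image_cokernel {C : Type u} [Category.{v} C] [Abelian C] {A B : C} (v : A ⟶ B) :
    (ShortComplex.mk (Abelian.image.ι v) (cokernel.π v) (kernel.condition _)).ShortExact where
  exact := by
    apply ShortComplex.exact_of_f_is_kernel
    exact kernelIsKernel (cokernel.π v)
  mono_f := by dsimp; infer_instance
  epi_g := by dsimp; infer_instance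

/-- Kernel, image and cokernel of the completion of a morphism of coherent modules. -/
theorem hat_kernel_image_cokernel (h40 : P13340.{u}) [IsLocallyNoetherian X] {F G : X.Modules}
    (hF : Coh.IsCoh F) (hG : Coh.IsCoh G) (v : F ⟶ G) {𝔉 𝔊 : ModF (completionAlong X 𝓘) hX} (u : 𝔉 ⟶ 𝔊)
    (e₁ : 𝔉 ≅ hat 𝓘 hX F) (e₂ : 𝔊 ≅ hat 𝓘 hX G) (hu : e₁.inv ≫ u ≫ e₂.hom = hatMap hX v) :
    Nonempty (kernel u ≅ hat 𝓘 hX (kernel v)) ∧ Nonempty (Abelian.image u ≅ hat 𝓘 hX (Abelian.image v)) ∧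
      Nonempty (cokernel u ≅ hat 𝓘 hX (cokernel v)) := by
  have hK := Sga67.CohBasic.isCoh_kernel v hF hG.1
  have hI := Sga67.CohBasic.isCoh_image v hF hG.1
  have hC := Sga67.CohBasic.isCoh_cokernel v hF.1 hG
  obtain ⟨a0, a⟩ := h40 X 𝓘 hX _ (shortExact_kernel_image v) hK hF hI
  obtain ⟨b0, b⟩ := h40 X 𝓘 hX _ (shortExact_image_cokernel v) hI hG hC
  refine nonempty_iso_of_factor u e₁ e₂ _ _ _ _ a0 b0 (a a0) (b b0) ?_
  rw [hu]
  refine Eq.trans ?_ (hatMap_comp hX _ _)
  exact congrArg (fun t => hatMap hX t) (Abelian.image.fac v).symm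

/-- The completion functor is fully faithful on coherent modules with proper support. -/
theorem exists_hatMap_eq {A : Type u} [CommRing A] (f : X ⟶ Spec (CommRingCat.of A)) (h37 : P13337.{u})
    [IsNoetherianRing A] (J : Ideal A) [IsAdicComplete J A]
    [IsSeparated f] [LocallyOfFiniteType f] [QuasiCompact f] (h𝓘 : 𝓘 = (FSch.idealSpec A J).comap f)
    {F G : X.Modules} (hF : Coh.IsCoh F) (hG : Coh.IsCoh G)
    (hFs : ClSub.IsProperOver f (CohB1.support F)) (hGs : ClSub.IsProperOver f (CohB1.support G)) (u : hat 𝓘 hX F ⟶ hat 𝓘 hX G) :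
    ∃ v : F ⟶ G, hatMap hX v = u := by
  let _ : X.Over (Spec (CommRingCat.of A)) := ⟨f⟩
  have : IsNoetherianRing (CommRingCat.of A) := ‹IsNoetherianRing A›
  have hXn : IsLocallyNoetherian X := LocallyOfFiniteType.isLocallyNoetherian f
  have h𝔛 : (completionAlong X 𝓘).IsLocNoethFormal := S3854.result X 𝓘
  have hgen : IsGenBy J 𝓘 := by
    rw [h𝓘]
    exact isGenBy_comap J
  have h1 : IsSeparated (X ↘ Spec (CommRingCat.of A)) := ‹IsSeparated f›
  have h2 : LocallyOfFiniteType (X ↘ Spec (CommRingCat.of A)) := ‹LocallyOfFiniteType f›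
  have h3 : QuasiCompact (X ↘ Spec (CommRingCat.of A)) := ‹QuasiCompact f›
  obtain ⟨φ, hφ⟩ := (h37 _ h𝔛 (complMod 𝓘 F) (complMod 𝓘 G) (isCoh_complMod hF) (isCoh_complMod hG)).2 u
  let ψ : Formal.completion J F ⟶ Formal.completion J G :=
    (compIso hgen hF.1).hom ≫ toSysMap φ ≫ (compIso hgen hG.1).inv
  obtain ⟨v, hv, -⟩ := S0798.result A J X F G hF hG hFs hGs ψ
  refine ⟨v, ?_⟩
  rw [← hφ]
  have key : φ = complModMap 𝓘 v := by
    refine complModMap_of_un 𝓘 φ v fun n => ?_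
    have h4 := hv n
    rw [← cπ_eq, ← cπ_eq] at h4
    have h5 : (compIso hgen hF.1).hom ≫ toSysMap φ = ψ ≫ (compIso hgen hG.1).hom := by
      simp [ψ]
    have h6 := congrArg (fun t => cπ J F n ≫ t.app (op n)) h5
    simp only [NatTrans.comp_app] at h6
    rw [cπ_compIso_assoc, ← Category.assoc (cπ J F n)] at h6
    have h7 : (cπ J F n ≫ ψ.app (op n)) ≫ (compIso hgen hG.1).hom.app (op n) = v ≫ un 𝓘 G n := by
      refine (congrArg (fun t => t ≫ (compIso hgen hG.1).hom.app (op n)) h4).trans ?_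
      refine (Category.assoc _ _ _).trans ?_
      exact congrArg (fun t => v ≫ t) (cπ_compIso hgen hG.1 n)
    exact h6.trans h7
  rw [key]

end K179.AlgzKer
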