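import Groth.Agent.FSch.K179.AlgzKer

/-!
# Algebraizable modules: kernels, images, cokernels, extensions (`S13644`, `S13646` modulo the interface)
-/

set_option autoImplicit false
universe v u

open CategoryTheory CategoryTheory.Limits AlgebraicGeometry Opposite

namespace K179.AlgzMain

open FSch K179.Iface K179.RealMod K179.Algz K179.AlgzKer
open Groth.Agent

variable {A : Type u} [CommRing A] {X : Scheme.{u}} {f : X ⟶ Spec (CommRingCat.of A)}
  {𝓘 : X.IdealSheafData} {hX : (FSch.completionAlong X 𝓘).IsFormal}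

/-- Kernels, images and cokernels of maps of algebraizable modules are algebraizable. -/
theorem isAlgz_kernel_image_cokernel (h37 : P13337.{u}) (h40 : P13340.{u}) [IsNoetherianRing A] (J : Ideal A)
    [IsAdicComplete J A] [IsSeparated f] [LocallyOfFiniteType f] [QuasiCompact f]
    (h𝓘 : 𝓘 = (FSch.idealSpec A J).comap f) {𝔉 𝔊 : ModF (completionAlong X 𝓘) hX}
    (h𝔉 : IsAlgz f 𝓘 hX 𝔉) (h𝔊 : IsAlgz f 𝓘 hX 𝔊) (u : 𝔉 ⟶ 𝔊) :
    IsAlgz f 𝓘 hX (kernel u) ∧ IsAlgz f 𝓘 hX (Abelian.image u) ∧ IsAlgz f 𝓘 hX (cokernel u) := by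
  have : IsNoetherianRing (CommRingCat.of A) := ‹IsNoetherianRing A›
  have hXn : IsLocallyNoetherian X := LocallyOfFiniteType.isLocallyNoetherian f
  obtain ⟨F, cF, sF, ⟨e₁⟩⟩ := h𝔉
  obtain ⟨G, cG, sG, ⟨e₂⟩⟩ := h𝔊
  obtain ⟨v, hv⟩ := exists_hatMap_eq hX f h37 J h𝓘 cF cG sF sG (e₁.inv ≫ u ≫ e₂.hom)
  obtain ⟨hk, hi, hc⟩ := hat_kernel_image_cokernel hX h40 cF cG v u e₁ e₂ hv.symm
  have hK := Sga67.CohBasic.isCoh_kernel v cF cG.1
  have hI := Sga67.CohBasic.isCoh_image v cF cG.1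
  have hC := Sga67.CohBasic.isCoh_cokernel v cF.1 cG
  refine ⟨⟨kernel v, hK, ?_, hk⟩, ⟨Abelian.image v, hI, ?_, hi⟩, ⟨cokernel v, hC, ?_, hc⟩⟩
  · exact FormalA.ProperOver.isProperOver_subset f sF (Ega3B.Devissage.isClosed_support hK)
      (Ega3B.Devissage.support_subset_of_mono (kernel.ι v))
  · exact FormalA.ProperOver.isProperOver_subset f sF (Ega3B.Devissage.isClosed_support hI)
      (Ega3B.Devissage.support_subset_of_epi (Abelian.factorThruImage v))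
  · exact FormalA.ProperOver.isProperOver_subset f sG (Ega3B.Devissage.isClosed_support hC)
      (Ega3B.Devissage.support_subset_of_epi (cokernel.π v))

/-- A coherent module with algebraizable image target, kernel and cokernel is algebraizable. -/
theorem isAlgz_of_kernel_cokernel (h35 : P13335.{u}) (h36 : P13336.{u}) (h37 : P13337.{u}) (h40 : P13340.{u})
    [IsNoetherianRing A] (J : Ideal A)
    [IsAdicComplete J A] [IsSeparated f] [LocallyOfFiniteType f] [QuasiCompact f]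
    (h𝓘 : 𝓘 = (FSch.idealSpec A J).comap f) {𝔉 𝔊 : ModF (completionAlong X 𝓘) hX}
    (h𝔉 : IsCohF _ hX 𝔉) (u : 𝔉 ⟶ 𝔊) (a𝔊 : IsAlgz f 𝓘 hX 𝔊) (ak : IsAlgz f 𝓘 hX (kernel u))
    (ac : IsAlgz f 𝓘 hX (cokernel u)) : IsAlgz f 𝓘 hX 𝔉 := by
  have hi : IsAlgz f 𝓘 hX (Abelian.image u) :=
    (isAlgz_kernel_image_cokernel h37 h40 J h𝓘 a𝔊 ac (cokernel.π u)).1
  exact isAlgz_of_shortExact h35 h36 J h𝓘 _ (shortExact_kernel_image u) h𝔉 ak hi

end K179.AlgzMain
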