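import Groth.Agent.FSch.K179.FFLoc
import Groth.Agent.S0036
import Groth.Agent.FormalB.SysSect

/-!
# The theorem on formal functions, in `O_Y`-modules

For `f : X ⟶ Y` proper, `Y` locally Noetherian, `F` coherent and `G = R^n f_* F`:

* `gam : toSys (complMod 𝓘 G) ⟶ toSys (complMod (𝓘.comap f) F) ⋙ R^n f_*` (the maps `G/𝓘^(k+1)G → R^n f_*(F_k)`);
* `iso : limit (toSys (complMod 𝓘 G)) ≅ limit (toSys (complMod (𝓘.comap f) F) ⋙ R^n f_*)`.
-/

set_option autoImplicit false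
universe u

open CategoryTheory CategoryTheory.Limits AlgebraicGeometry Opposite

namespace K179.FFLevels

/-- Algebra: bijectivity of the map induced on inverse limits. -/
theorem alg {M : Type*} [AddCommGroup M] {G N : ℕ → Type*} [∀ k, AddCommGroup (G k)] [∀ k, AddCommGroup (N k)]
    (u : ∀ k, M →+ G k) (g : ∀ k, G k →+ N k) (tG : ∀ k, G (k + 1) →+ G k) (tN : ∀ k, N (k + 1) →+ N k)
    (hu : ∀ k, Function.Surjective (u k)) (htu : ∀ k x, tG k (u (k + 1) x) = u k x)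
    (htg : ∀ k x, tN k (g (k + 1) x) = g k (tG k x))
    (c : ℕ) (hK : ∀ m y, g (m + c) (u (m + c) y) = 0 → u m y = 0)
    (hS : ∀ t : ∀ k, N k, (∀ k, tN k (t (k + 1)) = t k) → ∀ k, ∃ y, g k (u k y) = t k) :
    (∀ s : ∀ k, G k, (∀ k, tG k (s (k + 1)) = s k) → (∀ k, g k (s k) = 0) → ∀ k, s k = 0) ∧
    (∀ t : ∀ k, N k, (∀ k, tN k (t (k + 1)) = t k) →
      ∃ s : ∀ k, G k, (∀ k, tG k (s (k + 1)) = s k) ∧ ∀ k, g k (s k) = t k) := by
  -- compatibility over several steps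
  have hcomp : ∀ (s : ∀ k, G k), (∀ k, tG k (s (k + 1)) = s k) → ∀ m d (y : M), u (m + d) y = s (m + d) →
      u m y = s m := by
    intro s hs m d
    induction d with
    | zero => intro y hy; exact hy
    | succ d ih =>
      intro y hy
      apply ih
      rw [← htu, ← hs]
      exact congrArg (tG (m + d)) hy
  have hcompN : ∀ (t : ∀ k, N k), (∀ k, tN k (t (k + 1)) = t k) → ∀ m d (y : M),
      g (m + d) (u (m + d) y) = t (m + d) → g m (u m y) = t m := by
    intro t ht m d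
    induction d with
    | zero => intro y hy; exact hy
    | succ d ih =>
      intro y hy
      apply ih
      rw [← htu, ← htg, ← ht]
      exact congrArg (tN (m + d)) hy
  refine ⟨fun s hs h0 m => ?_, fun t ht => ?_⟩
  · obtain ⟨y, hy⟩ := hu (m + c) (s (m + c))
    have h1 := hK m y (by rw [hy]; exact h0 _)
    rw [← hcomp s hs m c y hy, h1]
  · choose y hy using hS t ht
    refine ⟨fun m => u m (y (m + c)), fun m => ?_, fun m => hcompN t ht m c _ (hy _)⟩
    rw [htu, ← sub_eq_zero, ← map_sub]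
    apply hK
    rw [map_sub, map_sub, hy, sub_eq_zero]
    refine hcompN t ht (m + c) 1 _ ?_
    have : m + 1 + c = m + c + 1 := by omega
    have key : ∀ a b : ℕ, a = b → g b (u b (y a)) = t b := by
      rintro a _ rfl; exact hy a
    exact key _ _ this


open FSch K179.LocHH K179.LocQuot K179.FFGen K179.CompSys K179.FFLoc
open Groth.Agent.Sga2lef.H96.ModSysRec Groth.Agent.Sga2lef.H96.ModSysPush
open Groth.Agent.FormalB.KQuot Groth.Agent.FormalB.TrKQuot Groth.Agent.FormalB.ModPow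

theorem VT_eq {Y : Scheme.{u}} (V : Y.affineOpens) [IsAffine V.1.toScheme] : VT V.1 = V :=
  Subtype.ext (Scheme.Opens.ι_image_top _)

variable {X Y : Scheme.{u}} (f : X ⟶ Y) [IsProper f] (𝓘 : Y.IdealSheafData) {F : X.Modules} (n : ℕ)

theorem killed_Rpush (hF : Coh.IsQCoh F) (k : ℕ) : ClSub.KilledByIdeal (𝓘 ^ (k + 1))
    ((Coh.Rpush f n).obj (pm (complMod (𝓘.comap f) F) k)) := by
  rw [killedByIdeal_iff]
  intro V
  have : IsAffine V.1.toScheme := V.2
  have key : ∀ W : Y.affineOpens, VT V.1 = W → ∀ a : Γ(Y, W.1), a ∈ (𝓘 ^ (k + 1)).ideal W →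
      ∀ m : Γ((Coh.Rpush f n).obj (pm (complMod (𝓘.comap f) F) k), W.1), a • m = 0 := by
    rintro _ rfl a ha m
    exact smul_Rpush_eq_zero f 𝓘 V.1 hF n k a ha m
  exact key V (VT_eq V)

variable [IsLocallyNoetherian Y] (hF : Coh.IsCoh F)

include hF in
theorem exists_gam (k : ℕ) : ∃ g : pm (complMod 𝓘 ((Coh.Rpush f n).obj F)) k ⟶
    (Coh.Rpush f n).obj (pm (complMod (𝓘.comap f) F) k),
      un 𝓘 ((Coh.Rpush f n).obj F) k ≫ g = (Coh.Rpush f n).map (un (𝓘.comap f) F k) :=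
  (isKQuot_un 𝓘 (Groth.Agent.S0036.result f F hF n).1 k).desc _ (killed_Rpush f 𝓘 n hF.1 k)

/-- The maps `G/𝓘^(k+1)G → R^n f_*(F_k)`. -/
noncomputable def gamk (k : ℕ) : pm (complMod 𝓘 ((Coh.Rpush f n).obj F)) k ⟶
    (Coh.Rpush f n).obj (pm (complMod (𝓘.comap f) F) k) := (exists_gam f 𝓘 n hF k).choose

@[reassoc]
theorem un_gamk (k : ℕ) : un 𝓘 ((Coh.Rpush f n).obj F) k ≫ gamk f 𝓘 n hF k =
    (Coh.Rpush f n).map (un (𝓘.comap f) F k) := (exists_gam f 𝓘 n hF k).choose_spec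

/-- The morphism of inverse systems. -/
noncomputable def gam : toSys (complMod 𝓘 ((Coh.Rpush f n).obj F)) ⟶
    toSys (complMod (𝓘.comap f) F) ⋙ Coh.Rpush f n :=
  NatTrans.ofOpSequence (gamk f 𝓘 n hF) fun k => by
    have := (isKQuot_un 𝓘 (Groth.Agent.S0036.result f F hF n).1 (k + 1)).epi
    refine (cancel_epi (un 𝓘 ((Coh.Rpush f n).obj F) (k + 1))).1 ?_
    have h1 : un 𝓘 ((Coh.Rpush f n).obj F) (k + 1) ≫
      (toSys (complMod 𝓘 ((Coh.Rpush f n).obj F))).map (homOfLE (Nat.le_add_right k 1)).op =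
        un 𝓘 ((Coh.Rpush f n).obj F) k := un_toSys 𝓘 _ k
    have h2 : un (𝓘.comap f) F (k + 1) ≫
      (toSys (complMod (𝓘.comap f) F)).map (homOfLE (Nat.le_add_right k 1)).op =
        un (𝓘.comap f) F k := un_toSys (𝓘.comap f) F k
    refine (Category.assoc _ _ _).symm.trans (((congrArg (· ≫ gamk f 𝓘 n hF k) h1).trans
      (un_gamk f 𝓘 n hF k)).trans ?_)
    refine ((congrArg (Coh.Rpush f n).map h2).symm.trans ((Coh.Rpush f n).map_comp _ _)).trans ?_
    refine (congrArg (· ≫ (Coh.Rpush f n).map ((toSys (complMod (𝓘.comap f) F)).map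
      (homOfLE (Nat.le_add_right k 1)).op)) (un_gamk f 𝓘 n hF (k + 1))).symm.trans ?_
    exact Category.assoc _ _ _

theorem gam_app (k : ℕ) : (gam f 𝓘 n hF).app (op k) = gamk f 𝓘 n hF k := rfl


omit [IsLocallyNoetherian Y] in
/-- transition maps of the system of higher direct images, on sections. -/
theorem map_of_compat (T : ℕᵒᵖ ⥤ Y.Modules) (U : Y.Opens) (x : ∀ k : ℕ, Γ(T.obj (op k), U))
    (hx : ∀ k, (T.map (homOfLE (Nat.le_succ k)).op).app U (x (k + 1)) = x k) (m k : ℕ) (h : m ≤ k) :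
    (T.map (homOfLE h).op).app U (x k) = x m := by
  obtain ⟨y, hy⟩ := Groth.Agent.FormalB.SysSect.exists_limit_section T U x hx
  rw [← hy k, ← hy m]
  have h1 : limit.π T (op k) ≫ T.map (homOfLE h).op = limit.π T (op m) := limit.w T _
  exact congrArg (fun t => Scheme.Modules.Hom.app t U y) h1

include hF in
theorem sections (V : Y.affineOpens) :
    (∀ s : ∀ k : ℕ, Γ((toSys (complMod 𝓘 ((Coh.Rpush f n).obj F))).obj (op k), V.1),
      (∀ k, ((toSys (complMod 𝓘 ((Coh.Rpush f n).obj F))).map (homOfLE (Nat.le_succ k)).op).app V.1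
        (s (k + 1)) = s k) → (∀ k, ((gam f 𝓘 n hF).app (op k)).app V.1 (s k) = 0) → ∀ k, s k = 0) ∧
    (∀ t : ∀ k : ℕ, Γ((toSys (complMod (𝓘.comap f) F) ⋙ Coh.Rpush f n).obj (op k), V.1),
      (∀ k, ((toSys (complMod (𝓘.comap f) F) ⋙ Coh.Rpush f n).map (homOfLE (Nat.le_succ k)).op).app V.1
        (t (k + 1)) = t k) → ∃ s : ∀ k : ℕ, Γ((toSys (complMod 𝓘 ((Coh.Rpush f n).obj F))).obj (op k), V.1),
        (∀ k, ((toSys (complMod 𝓘 ((Coh.Rpush f n).obj F))).map (homOfLE (Nat.le_succ k)).op).app V.1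
          (s (k + 1)) = s k) ∧ ∀ k, ((gam f 𝓘 n hF).app (op k)).app V.1 (s k) = t k) := by
  have hV : IsAffine V.1.toScheme := V.2
  have hG := Groth.Agent.S0036.result f F hF n
  rw [← VT_eq V]
  obtain ⟨c, hc⟩ := exists_ker_fk f 𝓘 V.1 hF n
  obtain ⟨d, hd⟩ := exists_range_fk f 𝓘 V.1 hF n
  have hgu : ∀ (k : ℕ) (y : Γ((Coh.Rpush f n).obj F, (VT V.1).1)),
      (gamk f 𝓘 n hF k).app (VT V.1).1 ((un 𝓘 ((Coh.Rpush f n).obj F) k).app (VT V.1).1 y) =
        fk f 𝓘 V.1 F n k y := fun k y =>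
    congrArg (fun t => Scheme.Modules.Hom.app t (VT V.1).1 y) (un_gamk f 𝓘 n hF k)
  refine alg (fun k => ((un 𝓘 ((Coh.Rpush f n).obj F) k).app (VT V.1).1).hom)
    (fun k => (((gam f 𝓘 n hF).app (op k)).app (VT V.1).1).hom)
    (fun k => (((toSys (complMod 𝓘 ((Coh.Rpush f n).obj F))).map
      (homOfLE (Nat.le_succ k)).op).app (VT V.1).1).hom)
    (fun k => (((toSys (complMod (𝓘.comap f) F) ⋙ Coh.Rpush f n).map
      (homOfLE (Nat.le_succ k)).op).app (VT V.1).1).hom)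
    (fun k => IsKQuot.app_surjective (isKQuot_un 𝓘 hG.1 k) hG.1 (VT V.1).2)
    (fun k x => ?_) (fun k x => ?_) (c + 1) (fun m y hy => ?_) (fun t ht k => ?_)
  · exact congrArg (fun t => Scheme.Modules.Hom.app t (VT V.1).1 x) (un_toSys 𝓘 _ k)
  · exact congrArg (fun t => Scheme.Modules.Hom.app t (VT V.1).1 x)
      ((gam f 𝓘 n hF).naturality (homOfLE (Nat.le_succ k)).op).symm
  · refine (IsKQuot.app_eq_zero_iff (isKQuot_un 𝓘 hG.1 m) hG.1 (VT V.1) y).2 ?_
    have h1 : fk f 𝓘 V.1 F n (m + (c + 1)) y = 0 := (hgu _ y).symm.trans hy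
    have h2 := hc (m + (c + 1)) (by omega) y h1
    have h3 : m + (c + 1) - c = m + 1 := by omega
    rw [h3] at h2
    exact h2
  · obtain ⟨s, hs⟩ := hd k (k + d) (Nat.le_add_right _ _) le_rfl (t (k + d))
    refine ⟨s, (hgu k s).trans (hs.trans ?_)⟩
    exact map_of_compat (toSys (complMod (𝓘.comap f) F) ⋙ Coh.Rpush f n) (VT V.1).1 t ht k (k + d)
      (Nat.le_add_right _ _)

theorem isIso_limMap : IsIso (limMap (gam f 𝓘 n hF)) := by
  have hπ : ∀ (U : Y.Opens) (k : ℕ) (s : Γ(limit (toSys (complMod 𝓘 ((Coh.Rpush f n).obj F))), U)),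
      (limit.π (toSys (complMod (𝓘.comap f) F) ⋙ Coh.Rpush f n) (op k)).app U
        ((limMap (gam f 𝓘 n hF)).app U s) =
      ((gam f 𝓘 n hF).app (op k)).app U ((limit.π (toSys (complMod 𝓘 ((Coh.Rpush f n).obj F)))
        (op k)).app U s) := fun U k s =>
    congrArg (fun t => Scheme.Modules.Hom.app t U s) (limMap_π (gam f 𝓘 n hF) (op k))
  have hw : ∀ (T : ℕᵒᵖ ⥤ Y.Modules) (U : Y.Opens) (k : ℕ) (s : Γ(limit T, U)),
      (T.map (homOfLE (Nat.le_succ k)).op).app U ((limit.π T (op (k + 1))).app U s) =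
        (limit.π T (op k)).app U s := fun T U k s =>
    congrArg (fun t => Scheme.Modules.Hom.app t U s) (limit.w T (homOfLE (Nat.le_succ k)).op)
  have hinj : ∀ U : Y.Opens, IsAffineOpen U → ∀ s, (limMap (gam f 𝓘 n hF)).app U s = 0 → s = 0 := by
    intro U hU s hs
    refine Groth.Agent.FormalB.SysSect.limit_section_ext _ U s 0 fun k => ?_
    rw [map_zero]
    refine (sections f 𝓘 n hF ⟨U, hU⟩).1 (fun k => (limit.π
      (toSys (complMod 𝓘 ((Coh.Rpush f n).obj F))) (op k)).app U s) (fun k => hw _ U k s)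
      (fun k => ?_) k
    rw [← hπ U k s, hs, map_zero]
  have hsurj : ∀ U : Y.Opens, IsAffineOpen U → Function.Surjective ((limMap (gam f 𝓘 n hF)).app U) := by
    intro U hU t
    obtain ⟨s, hs, hst⟩ := (sections f 𝓘 n hF ⟨U, hU⟩).2 (fun k => (limit.π
      (toSys (complMod (𝓘.comap f) F) ⋙ Coh.Rpush f n) (op k)).app U t)
      (fun k => hw _ U k t)
    obtain ⟨y, hy⟩ := Groth.Agent.FormalB.SysSect.exists_limit_section _ U s hs
    refine ⟨y, Groth.Agent.FormalB.SysSect.limit_section_ext _ U _ _ fun k => ?_⟩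
    rw [hπ, hy]
    exact hst k
  have : Mono (limMap (gam f 𝓘 n hF)) := by
    refine Preadditive.mono_of_cancel_zero _ fun {Z} g hg => ?_
    refine Groth.Agent.FormalB.SysSect.hom_eq_zero_of_affine g fun U hU m => hinj U hU _ ?_
    exact congrArg (fun t => Scheme.Modules.Hom.app t U m) hg
  have : Epi (limMap (gam f 𝓘 n hF)) := Groth.Agent.FormalB.SysSect.epi_of_affine _ hsurj
  exact isIso_of_mono_of_epi _

/-- **Formal functions in `O_Y`-modules.** `lim_k G/𝓘^(k+1)G ≅ lim_k R^n f_*(F_k)` with `G = R^n f_* F`. -/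
noncomputable def iso : limit (toSys (complMod 𝓘 ((Coh.Rpush f n).obj F))) ≅
    limit (toSys (complMod (𝓘.comap f) F) ⋙ Coh.Rpush f n) :=
  letI := isIso_limMap f 𝓘 n hF
  asIso (limMap (gam f 𝓘 n hF))

end K179.FFLevels
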