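import Groth.Agent.FCompl.K29.RPull
import Groth.Agent.FCompl.K29.RBasis

/-!
# Maps between direct images along an inducing map of ringed spaces

`f : T1 ⟶ T` such that every open of `T1` is an inverse image, `ρ : R ⟶ f_* R1`.  A map
`g : ρ_* M ⟶ ρ_* N` whose components over the members of a basis are linear over the sections of `R1` is `ρ_*` of a
unique map `M ⟶ N`.
-/

set_option autoImplicit false
set_option linter.unusedSectionVars false
universe u

open CategoryTheory TopologicalSpace Opposite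

namespace K179.KLGen

open K29.RSec K29.RPull

variable {T T1 : TopCat.{u}} {f : T1 ⟶ T} {R : Sheaf (Opens.grothendieckTopology T) CommRingCat.{u}}
  {R1 : Sheaf (Opens.grothendieckTopology T1) CommRingCat.{u}}
  [(Opens.map f).IsContinuous (Opens.grothendieckTopology T) (Opens.grothendieckTopology T1)]
  (ρ : ringSheaf R ⟶ ((Opens.map f).sheafPushforwardContinuous RingCat.{u}
    (Opens.grothendieckTopology T) (Opens.grothendieckTopology T1)).obj (ringSheaf R1))

/-- The largest open whose inverse image is contained in `W`. -/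
def sg (f : T1 ⟶ T) (W : Opens T1) : Opens T := sSup {V | pre f V ≤ W}

theorem pre_sg_le (W : Opens T1) : pre f (sg f W) ≤ W := by
  intro x hx
  obtain ⟨V, hV, hxV⟩ := Opens.mem_sSup.1 (show f x ∈ sg f W from hx)
  exact hV hxV

theorem le_sg {W : Opens T1} {V : Opens T} (h : pre f V ≤ W) : V ≤ sg f W :=
  le_sSup (show V ∈ {V | pre f V ≤ W} from h)

theorem sg_mono {W W' : Opens T1} (h : W ≤ W') : sg f W ≤ sg f W' := le_sg ((pre_sg_le W).trans h)

variable (hf : ∀ W : Opens T1, ∃ V : Opens T, pre f V = W)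

include hf in
theorem le_pre_sg (W : Opens T1) : W ≤ pre f (sg f W) := by
  obtain ⟨V, rfl⟩ := hf W
  exact pre_mono f (le_sg le_rfl)

variable {M N : Mod R1} (g : (push ρ).obj M ⟶ (push ρ).obj N)

/-- Components of a map of direct images. -/
noncomputable def pa (V : Opens T) : Sec M (pre f V) →+ Sec N (pre f V) :=
  (app g V).toAddMonoidHom

theorem pa_smul (V : Opens T) (a : O R V) (x : Sec M (pre f V)) :
    pa ρ g V (cm ρ V a • x) = cm ρ V a • pa ρ g V x :=
  (app g V).map_smul a (show Sec ((push ρ).obj M) V from x)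

theorem pa_res {V V' : Opens T} (h : V' ≤ V) (x : Sec M (pre f V)) :
    pa ρ g V' (res M (pre_mono f h) x) = res N (pre_mono f h) (pa ρ g V x) :=
  app_res g h (show Sec ((push ρ).obj M) V from x)

/-- Transport of the components. -/
noncomputable def pb (W : Opens T1) : Sec M W →+ Sec N W :=
  ((res N (le_pre_sg hf W)).comp (pa ρ g (sg f W))).comp (res M (pre_sg_le W))

theorem res_pb {W : Opens T1} {V : Opens T} (h : pre f V ≤ W) (x : Sec M W) :
    res N h (pb ρ hf g W x) = pa ρ g V (res M h x) := by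
  have h1 : res M h x = res M (pre_mono f (le_sg h)) (res M (pre_sg_le W) x) := by
    rw [res_res]
  rw [h1, pa_res ρ g (le_sg h)]
  change res N h (res N (le_pre_sg hf W) (pa ρ g (sg f W) (res M (pre_sg_le W) x))) = _
  rw [res_res]

theorem pb_pre (V : Opens T) (x : Sec M (pre f V)) : pb ρ hf g (pre f V) x = pa ρ g V x := by
  have h := res_pb ρ hf g (le_refl (pre f V)) x
  rwa [res_self, res_self] at h

theorem pb_res {W W' : Opens T1} (h : W' ≤ W) (x : Sec M W) :
    pb ρ hf g W' (res M h x) = res N h (pb ρ hf g W x) := by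
  obtain ⟨V, rfl⟩ := hf W'
  rw [pb_pre, res_pb]

variable (B : Set (Opens T)) (hB : ∀ (x : T) (V : Opens T), x ∈ V → ∃ V' ∈ B, x ∈ V' ∧ V' ≤ V)
  (hlin : ∀ V ∈ B, ∀ (a : O R1 (pre f V)) (x : Sec M (pre f V)), pa ρ g V (a • x) = a • pa ρ g V x)

include hB hlin in
theorem pb_smul (W : Opens T1) (a : O R1 W) (x : Sec M W) :
    pb ρ hf g W (a • x) = a • pb ρ hf g W x := by
  refine eq_of_forall_nhds N _ _ fun y hy => ?_
  have h1 : f y ∈ sg f W := le_pre_sg hf W hy
  obtain ⟨V, hVB, hyV, hV⟩ := hB (f y) (sg f W) h1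
  have h2 : pre f V ≤ W := (pre_mono f hV).trans (pre_sg_le W)
  refine ⟨pre f V, hyV, h2, ?_⟩
  rw [res_pb, res_smul, res_smul, hlin V hVB, res_pb]

include hf hB hlin in
/-- Fullness. -/
theorem exists_map_eq : ∃ ψ : M ⟶ N, (push ρ).map ψ = g := by
  refine ⟨homMk (pb ρ hf g) (pb_smul ρ hf g B hB hlin) (fun V W h m => pb_res ρ hf g h m), ?_⟩
  apply hom_ext
  intro V m
  exact pb_pre ρ hf g V m

include hf in
/-- Faithfulness. -/
theorem map_injective {ψ ψ' : M ⟶ N} (h : (push ρ).map ψ = (push ρ).map ψ') : ψ = ψ' := by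
  apply hom_ext
  intro W m
  obtain ⟨V, rfl⟩ := hf W
  exact congrArg (fun t => app t V (show Sec ((push ρ).obj M) V from m)) h

include hf in
/-- `ρ_*` reflects isomorphisms. -/
theorem isIso_of_isIso_map (ψ : M ⟶ N) (h : IsIso ((push ρ).map ψ)) : IsIso ψ := by
  apply K29.RBasis.isIso_of_local
  intro x W hx
  refine ⟨W, hx, le_rfl, ?_⟩
  obtain ⟨V, rfl⟩ := hf W
  have h1 : Function.Bijective (app ((push ρ).map ψ) V) := by
    refine ⟨fun a b hab => ?_, fun b => ⟨app (inv ((push ρ).map ψ)) V b, ?_⟩⟩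
    · have h2 := congrArg (app (inv ((push ρ).map ψ)) V) hab
      rwa [← app_comp, ← app_comp, IsIso.hom_inv_id, app_id, app_id] at h2
    · rw [← app_comp, IsIso.inv_hom_id, app_id]
  exact h1

end K179.KLGen
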