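import Groth.Agent.FSch.K179.ComplRing
import Groth.Agent.FSch.K179.KLGen
import Groth.Agent.FSch.K179.PushLim
import Groth.Agent.FCompl.K29.RLim

/-!
# Full faithfulness of the direct image from a completion

`X` locally Noetherian, `T : X̂ ⟶ X`.  An `O_X`-linear map `T_* 𝔉 ⟶ T_* 𝔊` comes from a unique `O_X̂`-linear map
`𝔉 ⟶ 𝔊` as soon as the sections of `𝔊` over affine opens are separated (`SepAff 𝔊`), for instance
`𝔊 = realLim` (`sepAff_realLim`).
-/

set_option autoImplicit false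
set_option linter.unusedSectionVars false
universe u

open CategoryTheory CategoryTheory.Limits AlgebraicGeometry TopologicalSpace Opposite

namespace K179.KL

open FSch K919.AffBasic K179.ComplRing K179.KLGen K29.RSec K29.RPull

variable {X : Scheme.{u}} (𝓘 : X.IdealSheafData) (hX : (completionAlong X 𝓘).IsFormal)

/-- The structure map of `X̂ ⟶ X`. -/
noncomputable abbrev ρ := (toSchemeMor (completionAlong X 𝓘) hX (completionToX X 𝓘) (completionToX_comm X 𝓘)).sharpR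

theorem exists_preimage (W : ((completionAlong X 𝓘).X 0).Opens) : ∃ V : X.Opens, iO 𝓘 V = W := by
  have : IsClosedImmersion (completionToX X 𝓘 0) :=
    inferInstanceAs (IsClosedImmersion (𝓘 ^ (0 + 1)).subschemeι)
  obtain ⟨V, hV, hVW⟩ := (completionToX X 𝓘 0).isClosedEmbedding.isInducing.isOpen_iff.1 W.isOpen
  exact ⟨⟨V, hV⟩, Opens.ext hVW⟩

/-- The ideal generated by `𝓘^(k+1)`. -/
noncomputable def JJ (k : ℕ) {U : X.Opens} (hU : IsAffineOpen U) :
    Ideal (O (T := ((completionAlong X 𝓘).X 0).carrier) ((completionAlong X 𝓘).Osh hX) (iO 𝓘 U)) :=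
  (𝓘.ideal ⟨U, hU⟩ ^ (k + 1)).map (cs 𝓘 hX U)

/-- The sections of `𝔊` over the affine opens are separated for the powers of `𝓘`. -/
def SepAff (𝔊 : ModF (completionAlong X 𝓘) hX) : Prop :=
  ∀ (U : X.Opens) (hU : IsAffineOpen U) (x : Sec (T := ((completionAlong X 𝓘).X 0).carrier) 𝔊 (iO 𝓘 U)),
    (∀ k : ℕ, x ∈ (JJ 𝓘 hX k hU •
        (⊤ : Submodule (O (T := ((completionAlong X 𝓘).X 0).carrier) ((completionAlong X 𝓘).Osh hX) (iO 𝓘 U))
          (Sec (T := ((completionAlong X 𝓘).X 0).carrier) 𝔊 (iO 𝓘 U))))) → x = 0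

section Lin

variable {𝓘 hX} {𝔉 𝔊 : ModF (completionAlong X 𝓘) hX}
  (g : (push (ρ 𝓘 hX)).obj 𝔉 ⟶ (push (ρ 𝓘 hX)).obj 𝔊) {U : X.Opens} (hU : IsAffineOpen U)

theorem pa_mem (k : ℕ) (b : O (T := ((completionAlong X 𝓘).X 0).carrier) ((completionAlong X 𝓘).Osh hX) (iO 𝓘 U))
    (hb : b ∈ JJ 𝓘 hX k hU) (x : Sec (T := ((completionAlong X 𝓘).X 0).carrier) 𝔉 (iO 𝓘 U)) :
    pa (ρ 𝓘 hX) g U (b • x) ∈ (JJ 𝓘 hX k hU •
        (⊤ : Submodule (O (T := ((completionAlong X 𝓘).X 0).carrier) ((completionAlong X 𝓘).Osh hX) (iO 𝓘 U))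
          (Sec (T := ((completionAlong X 𝓘).X 0).carrier) 𝔊 (iO 𝓘 U)))) := by
  revert x
  refine Submodule.span_induction (p := fun b _ => ∀ x : Sec (T := ((completionAlong X 𝓘).X 0).carrier) 𝔉 (iO 𝓘 U),
    pa (ρ 𝓘 hX) g U (b • x) ∈ (JJ 𝓘 hX k hU •
        (⊤ : Submodule (O (T := ((completionAlong X 𝓘).X 0).carrier) ((completionAlong X 𝓘).Osh hX) (iO 𝓘 U))
          (Sec (T := ((completionAlong X 𝓘).X 0).carrier) 𝔊 (iO 𝓘 U))))) ?_ ?_ ?_ ?_ hb
  · rintro _ ⟨i, hi, rfl⟩ x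
    have h1 := pa_smul (ρ 𝓘 hX) g U i x
    have h2 : pa (ρ 𝓘 hX) g U ((show O (T := ((completionAlong X 𝓘).X 0).carrier)
        ((completionAlong X 𝓘).Osh hX) (iO 𝓘 U) from cs 𝓘 hX U i) • x) =
        (show O (T := ((completionAlong X 𝓘).X 0).carrier)
        ((completionAlong X 𝓘).Osh hX) (iO 𝓘 U) from cs 𝓘 hX U i) • pa (ρ 𝓘 hX) g U x := h1
    refine h2 ▸ Submodule.smul_mem_smul ?_ Submodule.mem_top
    exact Ideal.mem_map_of_mem _ hi
  · intro x
    rw [zero_smul, map_zero]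
    exact Submodule.zero_mem _
  · intro a b _ _ ha hb x
    rw [add_smul, map_add]
    exact Submodule.add_mem _ (ha x) (hb x)
  · intro r b _ hb x
    rw [smul_eq_mul, mul_comm, mul_smul]
    exact hb (r • x)

variable [IsLocallyNoetherian X]

include hU in
/-- Maps into a separated module are automatically linear. -/
theorem pa_linear (h𝔊 : SepAff 𝓘 hX 𝔊)
    (a : O (T := ((completionAlong X 𝓘).X 0).carrier) ((completionAlong X 𝓘).Osh hX) (iO 𝓘 U))
    (x : Sec (T := ((completionAlong X 𝓘).X 0).carrier) 𝔉 (iO 𝓘 U)) :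
    pa (ρ 𝓘 hX) g U (a • x) = a • pa (ρ 𝓘 hX) g U x := by
  rw [← sub_eq_zero]
  apply h𝔊 U hU
  intro k
  obtain ⟨a₀, h⟩ := exists_sub_mem 𝓘 hX hU k a
  let c : O (T := ((completionAlong X 𝓘).X 0).carrier) ((completionAlong X 𝓘).Osh hX) (iO 𝓘 U) := cs 𝓘 hX U a₀
  let b : O (T := ((completionAlong X 𝓘).X 0).carrier) ((completionAlong X 𝓘).Osh hX) (iO 𝓘 U) := a - c
  have hb : b ∈ JJ 𝓘 hX k hU := h
  have hab : a = c + b := by simp [b]
  have h1 : pa (ρ 𝓘 hX) g U (c • x) = c • pa (ρ 𝓘 hX) g U x := pa_smul (ρ 𝓘 hX) g U a₀ x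
  have h2 : pa (ρ 𝓘 hX) g U (a • x) - a • pa (ρ 𝓘 hX) g U x =
      pa (ρ 𝓘 hX) g U (b • x) - b • pa (ρ 𝓘 hX) g U x := by
    rw [hab, add_smul, add_smul, map_add, h1]
    abel
  rw [h2]
  exact Submodule.sub_mem _ (pa_mem g hU k b hb x) (Submodule.smul_mem_smul hb Submodule.mem_top)

end Lin

section Real

theorem pr_eq_zero (k : ℕ) {U : X.Opens} (hU : IsAffineOpen U)
    (b : O (T := ((completionAlong X 𝓘).X 0).carrier) ((completionAlong X 𝓘).Osh hX) (iO 𝓘 U))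
    (hb : b ∈ JJ 𝓘 hX k hU) : pr (completionAlong X 𝓘) hX k (iO 𝓘 U) b = 0 := by
  have h1 : JJ 𝓘 hX k hU ≤ RingHom.ker (pr (completionAlong X 𝓘) hX k (iO 𝓘 U)) := by
    refine Ideal.map_le_iff_le_comap.2 fun i hi => ?_
    rw [← ker_pr_cs 𝓘 hX k hU] at hi
    exact hi
  exact h1 hb

theorem smul_level (k : ℕ) {U : X.Opens} (hU : IsAffineOpen U) (M : ((completionAlong X 𝓘).X k).Modules)
    (b : O (T := ((completionAlong X 𝓘).X 0).carrier) ((completionAlong X 𝓘).Osh hX) (iO 𝓘 U))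
    (hb : b ∈ JJ 𝓘 hX k hU)
    (y : Sec (T := ((completionAlong X 𝓘).X 0).carrier) ((levelMor (completionAlong X 𝓘) hX k).push.obj M)
      (iO 𝓘 U)) : b • y = 0 := by
  have h1 : b • y = (show O (T := ((completionAlong X 𝓘).X 0).carrier) ((completionAlong X 𝓘).Osh hX)
      (iO 𝓘 U) from 0) • y := by
    have h2 : ∀ b' : O (T := ((completionAlong X 𝓘).X 0).carrier) ((completionAlong X 𝓘).Osh hX) (iO 𝓘 U),
        pr (completionAlong X 𝓘) hX k (iO 𝓘 U) b' = pr (completionAlong X 𝓘) hX k (iO 𝓘 U) b →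
          b' • y = b • y := by
      intro b' h
      have h3 : ∀ c : O (T := ((completionAlong X 𝓘).X 0).carrier) ((completionAlong X 𝓘).Osh hX) (iO 𝓘 U),
        c • y = (show Γ((completionAlong X 𝓘).X k, (completionAlong X 𝓘).lvU hX k (iO 𝓘 U)) from
          pr (completionAlong X 𝓘) hX k (iO 𝓘 U) c) •
            (show Γ(M, (completionAlong X 𝓘).lvU hX k (iO 𝓘 U)) from y) := fun c => rfl
      rw [h3, h3, h]
    refine (h2 0 ?_).symm
    rw [pr_eq_zero 𝓘 hX k hU b hb]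
    exact map_zero _
  rw [h1]
  exact zero_smul _ y

/-- Modules of systems are separated. -/
theorem sepAff_realLim (G : ∀ k, ((completionAlong X 𝓘).X k).Modules)
    (t : ∀ k, G (k + 1) ⟶ (Scheme.Modules.pushforward ((completionAlong X 𝓘).ι k)).obj (G k)) :
    SepAff 𝓘 hX (realLim (completionAlong X 𝓘) hX G t) := by
  intro U hU x hx
  refine K29.RLim.lim_ext (T := ((completionAlong X 𝓘).X 0).carrier)
    (levelSysOf (completionAlong X 𝓘) hX G t) (V := iO 𝓘 U) x 0 fun n => ?_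
  have h1 := hx n
  have key : ∀ z ∈ (JJ 𝓘 hX n hU •
        (⊤ : Submodule (O (T := ((completionAlong X 𝓘).X 0).carrier) ((completionAlong X 𝓘).Osh hX) (iO 𝓘 U))
          (Sec (T := ((completionAlong X 𝓘).X 0).carrier) (realLim (completionAlong X 𝓘) hX G t) (iO 𝓘 U)))),
      app (T := ((completionAlong X 𝓘).X 0).carrier) (realProj (completionAlong X 𝓘) hX G t n)
        (iO 𝓘 U) z = 0 := by
    intro z hz
    refine Submodule.smul_induction_on hz (fun b hb y _ => ?_) (fun y z hy hz => ?_)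
    · rw [map_smul]
      exact smul_level 𝓘 hX n hU (G n) b hb _
    · rw [map_add, hy, hz, add_zero]
  exact (key x h1).trans (map_zero (app (T := ((completionAlong X 𝓘).X 0).carrier)
    (realProj (completionAlong X 𝓘) hX G t n) (iO 𝓘 U))).symm

end Real

section Main

variable [IsLocallyNoetherian X] {𝓘 hX} {𝔉 𝔊 : ModF (completionAlong X 𝓘) hX}

theorem exists_affine (x : X) (V : X.Opens) (hx : x ∈ V) :
    ∃ V' ∈ {U : X.Opens | IsAffineOpen U}, x ∈ V' ∧ V' ≤ V := by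
  obtain ⟨W, hW, hxW, hWV⟩ := Opens.isBasis_iff_nbhd.1 X.isBasis_affineOpens hx
  exact ⟨W, hW, hxW, hWV⟩

/-- Fullness towards separated modules. -/
theorem exists_map_eq (h𝔊 : SepAff 𝓘 hX 𝔊) (g : (PushLim.TC hX).obj 𝔉 ⟶ (PushLim.TC hX).obj 𝔊) :
    ∃ ψ : 𝔉 ⟶ 𝔊, (PushLim.TC hX).map ψ = g :=
  KLGen.exists_map_eq (T := X.carrier) (T1 := ((completionAlong X 𝓘).X 0).carrier)
    (f := (completionToX X 𝓘 0).base) (R := X.sheaf) (ρ 𝓘 hX) (exists_preimage 𝓘) g {U : X.Opens | IsAffineOpen U}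
    exists_affine (fun V hV a x => pa_linear (U := V) g hV h𝔊 a x)

theorem map_injective {ψ ψ' : 𝔉 ⟶ 𝔊} (h : (PushLim.TC hX).map ψ = (PushLim.TC hX).map ψ') : ψ = ψ' :=
  KLGen.map_injective (T := X.carrier) (T1 := ((completionAlong X 𝓘).X 0).carrier)
    (f := (completionToX X 𝓘 0).base) (R := X.sheaf) (ρ 𝓘 hX) (exists_preimage 𝓘) h

theorem isIso_of_isIso_map (ψ : 𝔉 ⟶ 𝔊) (h : IsIso ((PushLim.TC hX).map ψ)) : IsIso ψ :=
  KLGen.isIso_of_isIso_map (T := X.carrier) (T1 := ((completionAlong X 𝓘).X 0).carrier)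
    (f := (completionToX X 𝓘 0).base) (R := X.sheaf) (ρ 𝓘 hX) (exists_preimage 𝓘) ψ h

/-- Isomorphic direct images, the second one separated, give isomorphic modules. -/
theorem nonempty_iso (h𝔊 : SepAff 𝓘 hX 𝔊) (e : (PushLim.TC hX).obj 𝔉 ≅ (PushLim.TC hX).obj 𝔊) :
    Nonempty (𝔉 ≅ 𝔊) := by
  obtain ⟨ψ, hψ⟩ := exists_map_eq h𝔊 e.hom
  have h1 : IsIso ((PushLim.TC hX).map ψ) := by
    rw [hψ]
    exact e.isIso_hom
  have h2 := isIso_of_isIso_map ψ h1
  exact ⟨asIso ψ⟩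

end Main

end K179.KL
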