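import Groth.Agent.FSch.K179.SysAff
import Groth.Agent.FSch.K179.FFLevels
import Groth.Agent.FSch.K179.KL

/-!
# The completion of a direct image

`f : X ⟶ Y` proper, `Y` locally Noetherian, `F` coherent: the canonical map `j^* f_* F ⟶ f̂_* i^* F` is an
isomorphism.
-/

set_option autoImplicit false
universe u

open CategoryTheory CategoryTheory.Limits AlgebraicGeometry Opposite

namespace K179.BcIso

open FSch K179.CompSys K179.PushLim K179.SysAff
open Groth.Agent.Sga2lef.H96.ModSysRec Groth.Agent.Sga2lef.H96.ModSysPush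
open Groth.Agent.FormalB.KQuot

theorem gen1 {C : Type*} [Category C] {A B B' L P Q : C} (u : A ⟶ B) (e : B ⟶ B') (p : B' ≅ L) (π : L ⟶ P)
    (c : P ⟶ Q) (hc : IsIso c) (r : B' ⟶ Q) (v : A ⟶ P) (h1 : p.inv ≫ r = π ≫ c) (h : (u ≫ e) ≫ r = v ≫ c) :
    (u ≫ e ≫ p.hom) ≫ π = v := by
  rw [← cancel_mono c, ← h, Category.assoc, ← h1]
  simp

theorem gen2 {C : Type*} [Category C] {G L0 L1 L2 L3 P0 P1 P2 P3 G0 : C} {kap : G ⟶ L0} {A : L0 ⟶ L1}
    {B : L1 ⟶ L2} {D : L2 ⟶ L3} {π0 : L0 ⟶ P0} {π1 : L1 ⟶ P1} {π2 : L2 ⟶ P2} {π3 : L3 ⟶ P3}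
    {a : P0 ⟶ P1} {b : P1 ⟶ P2} {d : P2 ⟶ P3} {u : G ⟶ P0} {v : G ⟶ G0} {u' : G0 ⟶ P1} {w : G0 ⟶ P2}
    {x : G ⟶ P3} {y : P3 ⟶ P2}
    (hA : A ≫ π1 = π0 ≫ a) (hB : B ≫ π2 = π1 ≫ b) (hD : D ≫ π3 = π2 ≫ d) (hk : kap ≫ π0 = u)
    (hu : u ≫ a = v ≫ u') (hw : u' ≫ b = w) (hx : v ≫ w = x ≫ y) (hy : y ≫ d = 𝟙 P3) :
    kap ≫ (A ≫ B ≫ D) ≫ π3 = x := by
  rw [Category.assoc, Category.assoc, hD, ← Category.assoc B, hB, Category.assoc, ← Category.assoc A, hA,
    Category.assoc, ← Category.assoc, hk, ← Category.assoc, hu, Category.assoc, ← Category.assoc u', hw,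
    ← Category.assoc, hx, Category.assoc, hy, Category.comp_id]

theorem gen3 {C : Type*} [Category C] {G A L B D E P : C} {u : G ⟶ A} {iG : A ≅ L} {kap : G ⟶ L} {t1 : A ⟶ B}
    {p : G ⟶ D} {t2 : D ≅ B} {t3 : D ⟶ E} {π : E ⟶ P} {w : G ⟶ P} (h1 : u ≫ iG.hom = kap)
    (h2 : u ≫ t1 = p ≫ t2.hom) (h3 : p ≫ t3 ≫ π = w) :
    kap ≫ (iG.inv ≫ t1 ≫ t2.inv ≫ t3) ≫ π = w := by
  rw [← h1, Category.assoc, ← h3]
  simp only [Category.assoc, Iso.hom_inv_id_assoc]
  rw [← Category.assoc u, h2, Category.assoc, Iso.hom_inv_id_assoc]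

theorem gen4 {C D : Type*} [Category C] [Category D] (R : C ⥤ D) {F A L P : C} {E : D} {u : F ⟶ A} {i : A ≅ L}
    {π : L ⟶ P} {a : F ⟶ P} {s : R.obj L ≅ E} {π' : E ⟶ R.obj P} (h1 : s.hom ≫ π' = R.map π)
    (h2 : (u ≫ i.hom) ≫ π = a) : R.map u ≫ (R.mapIso i ≪≫ s).hom ≫ π' = R.map a := by
  rw [← h2, Iso.trans_hom, Category.assoc, h1, Functor.mapIso_hom, Functor.map_comp, Functor.map_comp,
    Category.assoc]

section Unit

variable {X : Scheme.{u}} {𝓘 : X.IdealSheafData} (hX : (completionAlong X 𝓘).IsFormal)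

/-- `T^*`. -/
noncomputable abbrev PC : X.Modules ⥤ ModF (completionAlong X 𝓘) hX :=
  (toSchemeMor (completionAlong X 𝓘) hX (completionToX X 𝓘) (completionToX_comm X 𝓘)).pull

/-- `T^* ⊣ T_*`. -/
noncomputable abbrev adjC : PC hX ⊣ TC hX :=
  (toSchemeMor (completionAlong X 𝓘) hX (completionToX X 𝓘) (completionToX_comm X 𝓘)).adj

/-- the hypothesis of `S13339` -/
def IsG (F : X.Modules) (e : (PC hX).obj F ≅ (complMod 𝓘 F).realMod hX) : Prop :=
  ∀ k, ((adjC hX).homEquiv _ _ e.hom) ≫ (TC hX).map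
      (realProj (completionAlong X 𝓘) hX (complMod 𝓘 F).F (complMod 𝓘 F).toPush k) =
    un 𝓘 F k ≫ (cmp (completionAlong X 𝓘) hX (completionToX X 𝓘) (completionToX_comm X 𝓘) k).app _

/-- `T_* T^* F ≅ lim_k F/𝓘^(k+1)F`. -/
noncomputable def iC {F : X.Modules} (e : (PC hX).obj F ≅ (complMod 𝓘 F).realMod hX) :
    (TC hX).obj ((PC hX).obj F) ≅ limit (toSys (complMod 𝓘 F)) :=
  (TC hX).mapIso e ≪≫ pushRealMod hX (complMod 𝓘 F)

theorem unit_iC {F : X.Modules} {e : (PC hX).obj F ≅ (complMod 𝓘 F).realMod hX} (he : IsG hX F e) :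
    (adjC hX).unit.app F ≫ (iC hX e).hom = kap 𝓘 F := by
  refine limit.hom_ext fun n => ?_
  obtain ⟨k⟩ := n
  have h1 := pushRealMod_inv_proj hX (complMod 𝓘 F) k
  have h2 : (adjC hX).unit.app F ≫ (TC hX).map e.hom = (adjC hX).homEquiv _ _ e.hom :=
    ((adjC hX).homEquiv_unit (f := e.hom)).symm
  have : IsIso ((cmp (completionAlong X 𝓘) hX (completionToX X 𝓘) (completionToX_comm X 𝓘) k).app
    ((complMod 𝓘 F).F k)) := isIso_cmp_app (completionAlong X 𝓘) hX (completionToX X 𝓘) (completionToX_comm X 𝓘) k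
    ((complMod 𝓘 F).F k)
  refine Eq.trans ?_ (kap_π 𝓘 F k).symm
  exact gen1 (C := X.Modules) ((adjC hX).unit.app F) ((TC hX).map e.hom) (pushRealMod hX (complMod 𝓘 F))
    (limit.π (toSys (complMod 𝓘 F)) (op k)) ((cmp (completionAlong X 𝓘) hX (completionToX X 𝓘)
      (completionToX_comm X 𝓘) k).app ((complMod 𝓘 F).F k)) this _ _ h1
    ((congrArg (· ≫ (TC hX).map (realProj (completionAlong X 𝓘) hX (complMod 𝓘 F).F
      (complMod 𝓘 F).toPush k)) h2).trans (he k))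

end Unit

section Zero

variable {X Y : Scheme.{u}} (f : X ⟶ Y)

/-- `f_* ≅ R⁰ f_*`. -/
noncomputable def th : Scheme.Modules.pushforward f ≅ Coh.Rpush f 0 :=
  (Scheme.Modules.pushforward f).rightDerivedZeroIsoSelf.symm

variable [IsProper f] [IsLocallyNoetherian Y] (𝓘 : Y.IdealSheafData) {F : X.Modules} (hF : Coh.IsCoh F)

include hF in
theorem isCoh_push : Coh.IsCoh ((Scheme.Modules.pushforward f).obj F) :=
  Groth.Agent.FormalB.FormalLoc.isCoh_of_iso ((th f).app F).symm (Groth.Agent.S0036.result f F hF 0)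

omit [IsLocallyNoetherian Y] in
theorem killed_push (hF : Coh.IsQCoh F) (k : ℕ) : ClSub.KilledByIdeal (𝓘 ^ (k + 1))
    ((Scheme.Modules.pushforward f).obj (pm (complMod (𝓘.comap f) F) k)) :=
  killedByIdeal_of_iso ((th f).app _).symm (FFLevels.killed_Rpush f 𝓘 0 hF k)

/-- The comparison of limits, in degree zero: `lim G/𝓘^(k+1)G → lim f_*(F_k)`, `G = f_* F`. -/
noncomputable def gz : limit (toSys (complMod 𝓘 ((Scheme.Modules.pushforward f).obj F))) ⟶
    limit (toSys (complMod (𝓘.comap f) F) ⋙ Scheme.Modules.pushforward f) :=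
  limMap (toSysMap (complModMap 𝓘 ((th f).hom.app F))) ≫ limMap (FFLevels.gam f 𝓘 0 hF) ≫
    limMap (Functor.whiskerLeft (toSys (complMod (𝓘.comap f) F)) (th f).inv)

theorem isIso_gz : IsIso (gz f 𝓘 hF) := by
  have h0 : IsIso (toSysMap (complModMap 𝓘 ((th f).hom.app F))) := by
    refine @NatIso.isIso_of_isIso_app _ _ _ _ _ _ _ fun k => ?_
    exact inferInstanceAs (IsIso ((Scheme.Modules.pushforward (completionToX Y 𝓘 k.unop)).map
      ((Scheme.Modules.pullback (completionToX Y 𝓘 k.unop)).map ((th f).hom.app F))))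
  have h1 : IsIso (limMap (toSysMap (complModMap 𝓘 ((th f).hom.app F)))) :=
    inferInstanceAs (IsIso (lim.map (toSysMap (complModMap 𝓘 ((th f).hom.app F)))))
  have h2 : IsIso (limMap (FFLevels.gam f 𝓘 0 hF)) := FFLevels.isIso_limMap f 𝓘 0 hF
  have h3 : IsIso (limMap (Functor.whiskerLeft (toSys (complMod (𝓘.comap f) F)) (th f).inv)) :=
    inferInstanceAs (IsIso (lim.map (Functor.whiskerLeft (toSys (complMod (𝓘.comap f) F)) (th f).inv)))
  exact inferInstanceAs (IsIso (_ ≫ _ ≫ _))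

theorem kap_gz (k : ℕ) : kap 𝓘 ((Scheme.Modules.pushforward f).obj F) ≫ gz f 𝓘 hF ≫
    limit.π (toSys (complMod (𝓘.comap f) F) ⋙ Scheme.Modules.pushforward f) (op k) =
      (Scheme.Modules.pushforward f).map (un (𝓘.comap f) F k) :=
  gen2 (limMap_π (toSysMap (complModMap 𝓘 ((th f).hom.app F))) (op k))
    (limMap_π (FFLevels.gam f 𝓘 0 hF) (op k))
    (limMap_π (Functor.whiskerLeft (toSys (complMod (𝓘.comap f) F)) (th f).inv) (op k))
    (kap_π 𝓘 _ k) (un_pmMap 𝓘 ((th f).hom.app F) k) (FFLevels.un_gamk f 𝓘 0 hF k)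
    ((th f).hom.naturality (un (𝓘.comap f) F k)).symm ((th f).hom_inv_id_app _)

end Zero

section Main

variable {X Y : Scheme.{u}} (f : X ⟶ Y) [IsProper f] [IsLocallyNoetherian Y] (𝓘 : Y.IdealSheafData)
  (hpc : PowCompat f (𝓘.comap f) 𝓘) (hX : (completionAlong X (𝓘.comap f)).IsFormal)
  (hY : (completionAlong Y 𝓘).IsFormal) {F : X.Modules} (hF : Coh.IsCoh F)

/-- The base change map. -/
noncomputable abbrev bc (F : X.Modules) :=
  schBcMap (completionMap f (𝓘.comap f) 𝓘 hpc) hX hY f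
      (completionToX X (𝓘.comap f)) (completionToX_comm X (𝓘.comap f))
      (completionToX Y 𝓘) (completionToX_comm Y 𝓘)
      (completionMap_sq f (𝓘.comap f) 𝓘 hpc) F

/-- The square on direct images. -/
noncomputable abbrev sq := schPushSq (completionMap f (𝓘.comap f) 𝓘 hpc) hX hY f
      (completionToX X (𝓘.comap f)) (completionToX_comm X (𝓘.comap f))
      (completionToX Y 𝓘) (completionToX_comm Y 𝓘)
      (completionMap_sq f (𝓘.comap f) 𝓘 hpc)

omit [IsProper f] [IsLocallyNoetherian Y] in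
theorem bc_transpose (F : X.Modules) :
    (toSchemeMor (completionAlong Y 𝓘) hY (completionToX Y 𝓘) (completionToX_comm Y 𝓘)).adj.homEquiv _ _
      (bc f 𝓘 hpc hX hY F) =
      (ModSite.RMor.ofScheme f).push.map ((toSchemeMor (completionAlong X (𝓘.comap f)) hX
        (completionToX X (𝓘.comap f)) (completionToX_comm X (𝓘.comap f))).adj.unit.app F) ≫
        (sq f 𝓘 hpc hX hY).hom.app ((toSchemeMor (completionAlong X (𝓘.comap f)) hX
        (completionToX X (𝓘.comap f)) (completionToX_comm X (𝓘.comap f))).pull.obj F) :=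
  ModSite.RMor.bcMap_transpose (schSharp_sq (completionMap f (𝓘.comap f) 𝓘 hpc) hX hY f
      (completionToX X (𝓘.comap f)) (completionToX_comm X (𝓘.comap f))
      (completionToX Y 𝓘) (completionToX_comm Y 𝓘)
      (completionMap_sq f (𝓘.comap f) 𝓘 hpc)) F

/-- the first part -/
noncomputable def t1 (F : X.Modules) : (TC hY).obj ((PC hY).obj ((Scheme.Modules.pushforward f).obj F)) ⟶
    (TC hY).obj ((pushF (completionMap f (𝓘.comap f) 𝓘 hpc) hX hY).obj ((PC hX).obj F)) :=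
  (TC hY).map (bc f 𝓘 hpc hX hY F)

/-- the second part -/
noncomputable def t2 (F : X.Modules) :
    (Scheme.Modules.pushforward f).obj ((TC hX).obj ((PC hX).obj F)) ≅
    (TC hY).obj ((pushF (completionMap f (𝓘.comap f) 𝓘 hpc) hX hY).obj ((PC hX).obj F)) :=
  (sq f 𝓘 hpc hX hY).app ((PC hX).obj F)

/-- the third part -/
noncomputable def t3 {F : X.Modules} (eF : (PC hX).obj F ≅ (complMod (𝓘.comap f) F).realMod hX) :
    (Scheme.Modules.pushforward f).obj ((TC hX).obj ((PC hX).obj F)) ≅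
      limit (toSys (complMod (𝓘.comap f) F) ⋙ Scheme.Modules.pushforward f) :=
  (Scheme.Modules.pushforward f).mapIso (iC hX eF) ≪≫
      preservesLimitIso (Scheme.Modules.pushforward f) (toSys (complMod (𝓘.comap f) F))

/-- the map `lim G/𝓘^(k+1)G → lim f_*F_k` of the base change map. -/
noncomputable def bet {F : X.Modules} (eF : (PC hX).obj F ≅ (complMod (𝓘.comap f) F).realMod hX)
    (eG : (PC hY).obj ((Scheme.Modules.pushforward f).obj F) ≅
      (complMod 𝓘 ((Scheme.Modules.pushforward f).obj F)).realMod hY) :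
    limit (toSys (complMod 𝓘 ((Scheme.Modules.pushforward f).obj F))) ⟶
      limit (toSys (complMod (𝓘.comap f) F) ⋙ Scheme.Modules.pushforward f) :=
  (iC hY eG).inv ≫ t1 f 𝓘 hpc hX hY F ≫ (t2 f 𝓘 hpc hX hY F).inv ≫ (t3 f 𝓘 hX eF).hom

omit [IsProper f] [IsLocallyNoetherian Y] in
theorem unit_t1 (F : X.Modules) : (adjC hY).unit.app ((Scheme.Modules.pushforward f).obj F) ≫
    t1 f 𝓘 hpc hX hY F = (Scheme.Modules.pushforward f).map ((adjC hX).unit.app F) ≫
      (t2 f 𝓘 hpc hX hY F).hom :=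
  (Adjunction.homEquiv_unit (adjC hY) (f := bc f 𝓘 hpc hX hY F)).symm.trans (bc_transpose f 𝓘 hpc hX hY F)

omit [IsProper f] [IsLocallyNoetherian Y] in
theorem unit_t3 {F : X.Modules} {eF : (PC hX).obj F ≅ (complMod (𝓘.comap f) F).realMod hX} (hF : IsG hX F eF)
    (k : ℕ) : (Scheme.Modules.pushforward f).map ((adjC hX).unit.app F) ≫ (t3 f 𝓘 hX eF).hom ≫
      limit.π (toSys (complMod (𝓘.comap f) F) ⋙ Scheme.Modules.pushforward f) (op k) =
        (Scheme.Modules.pushforward f).map (un (𝓘.comap f) F k) := by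
  have h1 : (preservesLimitIso (Scheme.Modules.pushforward f) (toSys (complMod (𝓘.comap f) F))).hom ≫
      limit.π (toSys (complMod (𝓘.comap f) F) ⋙ Scheme.Modules.pushforward f) (op k) =
        (Scheme.Modules.pushforward f).map (limit.π (toSys (complMod (𝓘.comap f) F)) (op k)) :=
    preservesLimitIso_hom_π _ _ _
  have h2 : ((adjC hX).unit.app F ≫ (iC hX eF).hom) ≫ limit.π (toSys (complMod (𝓘.comap f) F)) (op k) =
      un (𝓘.comap f) F k :=
    (congrArg (· ≫ limit.π (toSys (complMod (𝓘.comap f) F)) (op k)) (unit_iC hX hF)).trans (kap_π _ _ k)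
  exact gen4 (Scheme.Modules.pushforward f) h1 h2

omit [IsProper f] [IsLocallyNoetherian Y] in
theorem kap_bet {F : X.Modules} {eF : (PC hX).obj F ≅ (complMod (𝓘.comap f) F).realMod hX}
    {eG : (PC hY).obj ((Scheme.Modules.pushforward f).obj F) ≅
      (complMod 𝓘 ((Scheme.Modules.pushforward f).obj F)).realMod hY}
    (hF : IsG hX F eF) (hG : IsG hY _ eG) (k : ℕ) :
    kap 𝓘 ((Scheme.Modules.pushforward f).obj F) ≫ bet f 𝓘 hpc hX hY eF eG ≫
      limit.π (toSys (complMod (𝓘.comap f) F) ⋙ Scheme.Modules.pushforward f) (op k) =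
        (Scheme.Modules.pushforward f).map (un (𝓘.comap f) F k) :=
  gen3 (unit_iC hY hG) (unit_t1 f 𝓘 hpc hX hY F) (unit_t3 f 𝓘 hX hF k)

theorem gen5 {C : Type*} [Category C] {A L B D E : C} (iG : A ≅ L) (t1 : A ⟶ B) (t2 : D ≅ B) (t3 : D ≅ E)
    (h : IsIso (iG.inv ≫ t1 ≫ t2.inv ≫ t3.hom)) : IsIso t1 := by
  have e : t1 = iG.hom ≫ (iG.inv ≫ t1 ≫ t2.inv ≫ t3.hom) ≫ t3.inv ≫ t2.hom := by simp
  rw [e]
  infer_instance

include hF in
theorem isIso_bc (hX' : ∃ e, IsG hX F e) (hY' : ∃ e, IsG hY ((Scheme.Modules.pushforward f).obj F) e) :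
    IsIso (bc f 𝓘 hpc hX hY F) := by
  obtain ⟨eF, hF'⟩ := hX'
  obtain ⟨eG, hG'⟩ := hY'
  have h1 : bet f 𝓘 hpc hX hY eF eG = gz f 𝓘 hF :=
    hom_ext_kap_lim (isCoh_push f hF).1 (killed_push f 𝓘 hF.1) _ _ fun k =>
      (kap_bet f 𝓘 hpc hX hY hF' hG' k).trans (kap_gz f 𝓘 hF k).symm
  have h2 : IsIso (bet f 𝓘 hpc hX hY eF eG) := h1 ▸ isIso_gz f 𝓘 hF
  have h3 : IsIso (t1 f 𝓘 hpc hX hY F) :=
    gen5 (iC hY eG) (t1 f 𝓘 hpc hX hY F) (t2 f 𝓘 hpc hX hY F) (t3 f 𝓘 hX eF) h2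
  exact KL.isIso_of_isIso_map (bc f 𝓘 hpc hX hY F) h3

end Main

end K179.BcIso
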