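import Groth.Agent.FSch.K182.K4Coh
import Groth.Agent.FSch.K347.LimPushSch
import Groth.Agent.FSch.K179.KL

/-!
# Base change to the completion for coherent modules

`f : X ⟶ Y` proper, `X`, `Y` locally Noetherian, `F` coherent, `T = R^n f_*`:

* `exists_iso_limit`: `R^n f_*(lim_k F_k) ≅ lim_k R^n f_* F_k`, with its components;
* `exists_theta`: `κ_{Y*} κ_Y^* R^n f_* F ≅ R^n f_* κ_{X*} κ_X^* F`, compatible with the units;
* `sepAff_pull`, `exists_lift`: maps `κ_{Y*} N ⟶ κ_{Y*} κ_Y^* G`, `G` coherent, are `κ_{Y*} ψ`.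
-/

set_option autoImplicit false
set_option linter.style.haveILetI false
universe u

open CategoryTheory CategoryTheory.Limits AlgebraicGeometry TopologicalSpace Opposite

noncomputable section

namespace K179.CohBC

open FSch K920.KapSch K179.CompSys K179.PushLim K182.K4Coh K347.LimPushSch
open Groth.Agent.Sga2lef.H96.ModSysPush

section Gen

theorem exists_iso_tow {𝒟 : Type*} [Category* 𝒟] (T : ℕᵒᵖ ⥤ 𝒟) :
    ∃ e : Functor.ofOpSequence (X := fun k => T.obj (op k))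
      (fun k => T.map (homOfLE (Nat.le_add_right k 1)).op) ≅ T, ∀ k : ℕ, e.hom.app (op k) = 𝟙 _ := by
  let φ : Functor.ofOpSequence (X := fun k => T.obj (op k))
      (fun k => T.map (homOfLE (Nat.le_add_right k 1)).op) ⟶ T :=
    NatTrans.ofOpSequence (fun k => 𝟙 _) fun k => by
      rw [Functor.ofOpSequence_map_homOfLE_succ]
      exact (Category.comp_id _).trans (Category.id_comp _).symm
  have : ∀ k, IsIso (φ.app k) := fun k => inferInstanceAs (IsIso (𝟙 (T.obj k)))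
  exact ⟨NatIso.ofComponents (fun k => asIso (φ.app k)) fun g => φ.naturality g, fun k => rfl⟩

/-- The formal argument. -/
theorem gen {𝒞 𝒟 : Type*} [Category* 𝒞] [Category* 𝒟] (T : 𝒞 ⥤ 𝒟) {F P : 𝒞} (S : ℕᵒᵖ ⥤ 𝒞) [HasLimit S]
    (SG : ℕᵒᵖ ⥤ 𝒟) [HasLimit SG] [HasLimit (S ⋙ T)] (u : F ⟶ P) (eX : P ≅ limit S) (un : ∀ k : ℕ, F ⟶ S.obj (op k))
    (hX : ∀ k, u ≫ eX.hom ≫ limit.π S (op k) = un k) {Q : 𝒟} (v : T.obj F ⟶ Q) (eY : Q ≅ limit SG)
    (vn : ∀ k : ℕ, T.obj F ⟶ SG.obj (op k)) (hY : ∀ k, v ≫ eY.hom ≫ limit.π SG (op k) = vn k)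
    (γ : SG ⟶ S ⋙ T) (i : IsIso (limMap γ)) (hγ : ∀ k, vn k ≫ γ.app (op k) = T.map (un k))
    (b : T.obj (limit S) ≅ limit (S ⋙ T)) (hb : ∀ k : ℕ, b.hom ≫ limit.π (S ⋙ T) (op k) = T.map (limit.π S (op k))) :
    ∃ θ : Q ≅ T.obj P, v ≫ θ.hom = T.map u := by
  refine ⟨eY ≪≫ asIso (limMap γ) ≪≫ b.symm ≪≫ T.mapIso eX.symm, ?_⟩
  have h1 : (v ≫ (eY ≪≫ asIso (limMap γ) ≪≫ b.symm ≪≫ T.mapIso eX.symm).hom) ≫ T.map eX.hom ≫ b.hom =
      v ≫ eY.hom ≫ limMap γ := by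
    simp only [Iso.trans_hom, asIso_hom, Iso.symm_hom, Functor.mapIso_hom, Category.assoc]
    rw [← T.map_comp_assoc, Iso.inv_hom_id, T.map_id, Category.id_comp, Iso.inv_hom_id, Category.comp_id]
  have h2 : T.map u ≫ T.map eX.hom ≫ b.hom = v ≫ eY.hom ≫ limMap γ := by
    refine limit.hom_ext fun k => ?_
    obtain ⟨k⟩ := k
    simp only [Category.assoc]
    rw [hb, limMap_π, ← T.map_comp, ← T.map_comp]
    have h3 : v ≫ eY.hom ≫ limit.π SG (op k) ≫ γ.app (op k) = vn k ≫ γ.app (op k) := by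
      rw [← hY k]
      simp only [Category.assoc]
    rw [h3, hγ, hX]
  rw [← cancel_mono (T.map eX.hom ≫ b.hom), h1, h2]

theorem gen3 {𝒞 𝒟 : Type*} [Category* 𝒞] [Category* 𝒟] (P : 𝒞 ⥤ 𝒟) {N Q R : 𝒞} (g : P.obj N ⟶ P.obj Q) (i : Q ≅ R)
    (ψ : N ⟶ R) (hψ : P.map ψ = g ≫ P.map i.hom) : P.map (ψ ≫ i.inv) = g := by
  rw [P.map_comp, hψ, Category.assoc, ← P.map_comp, Iso.hom_inv_id, P.map_id, Category.comp_id]

end Gen

variable {X Y : Scheme.{u}} (f : X ⟶ Y) [IsProper f] [IsLocallyNoetherian Y] (𝓘 : Y.IdealSheafData) {F : X.Modules}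

/-- `R^n f_*(lim_k F_k) ≅ lim_k R^n f_* F_k`. -/
theorem exists_iso_limit [HasInjectiveResolutions X.Modules] (hF : Coh.IsCoh F) (n : ℕ) :
    ∃ b : (Coh.Rpush f n).obj (limit (T f 𝓘 F)) ≅ limit (T f 𝓘 F ⋙ Coh.Rpush f n), ∀ k : ℕ,
      b.hom ≫ limit.π (T f 𝓘 F ⋙ Coh.Rpush f n) (op k) = (Coh.Rpush f n).map (limit.π (T f 𝓘 F) (op k)) := by
  haveI : HasInjectiveResolutions (ModSite.Mod X.sheaf) := ‹HasInjectiveResolutions X.Modules›
  obtain ⟨e, he⟩ := K178.LimPush.exists_iso (ModSite.RMor.ofScheme f) n (X := fun k => (T f 𝓘 F).obj (op k))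
    (fun k => (T f 𝓘 F).map (homOfLE (Nat.le_succ k)).op) (F := (limit (T f 𝓘 F) : X.Modules))
    (fun k => limit.π (T f 𝓘 F) (op k)) (fun k => limit.w (T f 𝓘 F) (homOfLE (Nat.le_succ k)).op)
    (Y.affineOpens : Set Y.Opens)
    (fun U y hy => by
      obtain ⟨W, hW, hyW, hWU⟩ := Opens.isBasis_iff_nbhd.1 Y.isBasis_affineOpens hy
      exact ⟨W, hW, hyW, hWU⟩)
    (fun V hV x hx => K347.LimHU.eq_zero X.isBasis_affineOpens (T f 𝓘 F ⋙ tA X) (acyc_T f 𝓘 hF)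
      (surj_TA f 𝓘 hF) (cA f 𝓘 F) (isLimitA f 𝓘 F) (f ⁻¹ᵁ V) n
      (fun j _ t => exists_shift f 𝓘 hF j hV t) x hx)
    (fun V hV y hy => K347.LimHU.exists_lift X.isBasis_affineOpens (T f 𝓘 F ⋙ tA X) (acyc_T f 𝓘 hF)
      (surj_TA f 𝓘 hF) (cA f 𝓘 F) (isLimitA f 𝓘 F) (f ⁻¹ᵁ V) n y hy)
    (fun V hV k => th_bij f (isQCoh_T f 𝓘 hF.1 k) n hV)
  obtain ⟨e', he'⟩ := exists_iso_tow (T f 𝓘 F ⋙ Coh.Rpush f n)
  refine ⟨e ≪≫ lim.mapIso e', fun k => ?_⟩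
  have h1 : (lim.mapIso e').hom ≫ limit.π (T f 𝓘 F ⋙ Coh.Rpush f n) (op k) =
      limit.π _ (op k) ≫ e'.hom.app (op k) := limMap_π _ _
  refine (Category.assoc _ _ _).trans ((congrArg (fun t => e.hom ≫ t) h1).trans ?_)
  refine (congrArg (fun t => e.hom ≫ limit.π _ (op k) ≫ t) (he' k)).trans ?_
  exact (congrArg (fun t => e.hom ≫ t) (Category.comp_id _)).trans (he k)

/-- `κ_{Y*} κ_Y^* R^n f_* F ≅ R^n f_* κ_{X*} κ_X^* F`, compatible with the units. -/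
theorem exists_theta [IsLocallyNoetherian X] (𝓚 : X.IdealSheafData) (h𝓚 : 𝓚 = 𝓘.comap f)
    (hX : (completionAlong X 𝓚).IsFormal) (hY : (completionAlong Y 𝓘).IsFormal)
    [HasInjectiveResolutions (ModSite.Mod X.sheaf)] (F : ModSite.Mod X.sheaf) (hF : Coh.IsCoh (X := X) F) (n : ℕ) :
    ∃ θ : (toSchemeMor (completionAlong Y 𝓘) hY (completionToX Y 𝓘) (completionToX_comm Y 𝓘)).push.obj
        ((toSchemeMor (completionAlong Y 𝓘) hY (completionToX Y 𝓘) (completionToX_comm Y 𝓘)).pull.obj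
          (((ModSite.RMor.ofScheme f).Rpush n).obj F)) ≅
        ((ModSite.RMor.ofScheme f).Rpush n).obj
          ((toSchemeMor (completionAlong X 𝓚) hX (completionToX X 𝓚) (completionToX_comm X 𝓚)).push.obj
            ((toSchemeMor (completionAlong X 𝓚) hX (completionToX X 𝓚) (completionToX_comm X 𝓚)).pull.obj F)),
      (toSchemeMor (completionAlong Y 𝓘) hY (completionToX Y 𝓘) (completionToX_comm Y 𝓘)).adj.unit.app
          (((ModSite.RMor.ofScheme f).Rpush n).obj F) ≫ θ.hom =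
        ((ModSite.RMor.ofScheme f).Rpush n).map
          ((toSchemeMor (completionAlong X 𝓚) hX (completionToX X 𝓚) (completionToX_comm X 𝓚)).adj.unit.app F) := by
  subst h𝓚
  haveI : HasInjectiveResolutions X.Modules := ‹HasInjectiveResolutions (ModSite.Mod X.sheaf)›
  obtain ⟨eX, hX'⟩ := exists_iso_limit_toSys (𝓘.comap f) hX F hF
  obtain ⟨eY, hY'⟩ := exists_iso_limit_toSys 𝓘 hY ((Coh.Rpush f n).obj F) (Groth.Agent.S0036.result f F hF n)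
  obtain ⟨b, hb⟩ := exists_iso_limit f 𝓘 hF n
  exact gen (𝒞 := X.Modules) (𝒟 := Y.Modules) (Coh.Rpush f n) (T f 𝓘 F)
    (toSys (complMod 𝓘 ((Coh.Rpush f n).obj F))) (un' (𝓘.comap f) hX F) eX (un (𝓘.comap f) F) hX'
    (un' 𝓘 hY ((Coh.Rpush f n).obj F)) eY (un 𝓘 ((Coh.Rpush f n).obj F)) hY' (FFLevels.gam f 𝓘 n hF)
    (FFLevels.isIso_limMap f 𝓘 n hF) (fun k => FFLevels.un_gamk f 𝓘 n hF k) b hb

/-- `κ^* G` is separated for `G` coherent. -/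
theorem exists_lift_of_coh {Y : Scheme.{u}} [IsLocallyNoetherian Y] (𝓘 : Y.IdealSheafData)
    (hY : (completionAlong Y 𝓘).IsFormal) (G : ModSite.Mod Y.sheaf) (hG : Coh.IsCoh (X := Y) G)
    (N : ModSite.Mod ((completionAlong Y 𝓘).Osh hY))
    (g : (toSchemeMor (completionAlong Y 𝓘) hY (completionToX Y 𝓘) (completionToX_comm Y 𝓘)).push.obj N ⟶
      (toSchemeMor (completionAlong Y 𝓘) hY (completionToX Y 𝓘) (completionToX_comm Y 𝓘)).push.obj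
        ((toSchemeMor (completionAlong Y 𝓘) hY (completionToX Y 𝓘) (completionToX_comm Y 𝓘)).pull.obj G)) :
    ∃ ψ : N ⟶ (toSchemeMor (completionAlong Y 𝓘) hY (completionToX Y 𝓘) (completionToX_comm Y 𝓘)).pull.obj G,
      (toSchemeMor (completionAlong Y 𝓘) hY (completionToX Y 𝓘) (completionToX_comm Y 𝓘)).push.map ψ = g := by
  obtain ⟨i, -⟩ := Groth.Agent.S13339.result Y 𝓘 hY G hG
  obtain ⟨ψ, hψ⟩ := KL.exists_map_eq (𝓘 := 𝓘) (hX := hY) (𝔉 := N) (𝔊 := (complMod 𝓘 G).realMod hY)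
    (KL.sepAff_realLim 𝓘 hY (complMod 𝓘 G).F (complMod 𝓘 G).toPush)
    (g ≫ (toSchemeMor (completionAlong Y 𝓘) hY (completionToX Y 𝓘) (completionToX_comm Y 𝓘)).push.map i.hom)
  refine ⟨ψ ≫ i.inv, ?_⟩
  exact gen3 (toSchemeMor (completionAlong Y 𝓘) hY (completionToX Y 𝓘) (completionToX_comm Y 𝓘)).push g i ψ hψ

/-- `κ_*` reflects isomorphisms. -/
theorem isIso_of_isIso_push {Y : Scheme.{u}} [IsLocallyNoetherian Y] (𝓘 : Y.IdealSheafData)
    (hY : (completionAlong Y 𝓘).IsFormal) {N N' : ModSite.Mod ((completionAlong Y 𝓘).Osh hY)} (ψ : N ⟶ N')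
    (h : IsIso ((toSchemeMor (completionAlong Y 𝓘) hY (completionToX Y 𝓘) (completionToX_comm Y 𝓘)).push.map ψ)) :
    IsIso ψ :=
  KL.isIso_of_isIso_map (𝓘 := 𝓘) (hX := hY) ψ h

end K179.CohBC
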