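import Groth.Agent.FTors.K919.AffBasic
import Groth.Agent.S3854
import Mathlib.RingTheory.Nakayama

/-!
# Sections of `O_X̂` over the affine opens of `X`

`X` locally Noetherian, `𝓘` an ideal sheaf, `U` an affine open of `X`, `Û` its inverse image in `X̂`:
* `cs U : Γ(X, U) → O_X̂(Û)`; `pr n ∘ cs` is surjective with kernel `𝓘(U)^(n+1)`;
* `II_eq`: the kernel of `O_X̂(Û) → O_{X_0}(Û)` is generated by `𝓘(U)`;
* `exists_sub_mem`: every section of `O_X̂` over `Û` is congruent to the image of a section of `O_X` modulo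
  `𝓘(U)^(n+1)`.
-/

set_option autoImplicit false
universe u

open CategoryTheory CategoryTheory.Limits AlgebraicGeometry TopologicalSpace Opposite

namespace K179.ComplRing

open FSch K919.AffBasic

variable {X : Scheme.{u}} (𝓘 : X.IdealSheafData) (hX : (completionAlong X 𝓘).IsFormal)

/-- The inverse image in `X̂` of an open of `X`. -/
noncomputable abbrev iO (U : X.Opens) : ((completionAlong X 𝓘).X 0).Opens := completionToX X 𝓘 0 ⁻¹ᵁ U

/-- The map `Γ(X, U) → O_X̂(Û)`. -/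
noncomputable def cs (U : X.Opens) : Γ(X, U) →+* OU (completionAlong X 𝓘) hX (iO 𝓘 U) :=
  ((schSharp (completionAlong X 𝓘) hX (completionToX X 𝓘) (completionToX_comm X 𝓘)).hom.app (op U)).hom

theorem pr_cs (n : ℕ) (U : X.Opens) :
    (pr (completionAlong X 𝓘) hX n (iO 𝓘 U)).comp (cs 𝓘 hX U) =
      ((completionToX X 𝓘 n).appLE U ((completionAlong X 𝓘).lvU hX n (iO 𝓘 U))
        (lvU_p (completionAlong X 𝓘) hX (completionToX X 𝓘) (completionToX_comm X 𝓘) n U).ge).hom := by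
  have h1 := schSharp_proj (completionAlong X 𝓘) hX (completionToX X 𝓘) (completionToX_comm X 𝓘) n
  have h2 := congrArg (fun t => (t.hom.app (op U)).hom) h1
  exact h2

theorem pr_cs_surjective (n : ℕ) {U : X.Opens} (hU : IsAffineOpen U) :
    Function.Surjective ((pr (completionAlong X 𝓘) hX n (iO 𝓘 U)).comp (cs 𝓘 hX U)) := by
  rw [pr_cs]
  refine surjective_appLE_of_eq _ _ _ _
    (lvU_p (completionAlong X 𝓘) hX (completionToX X 𝓘) (completionToX_comm X 𝓘) n U) ?_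
  exact Scheme.IdealSheafData.subschemeι_app_surjective (𝓘 ^ (n + 1)) ⟨U, hU⟩

theorem ker_pr_cs (n : ℕ) {U : X.Opens} (hU : IsAffineOpen U) :
    RingHom.ker ((pr (completionAlong X 𝓘) hX n (iO 𝓘 U)).comp (cs 𝓘 hX U)) =
      𝓘.ideal ⟨U, hU⟩ ^ (n + 1) := by
  rw [pr_cs]
  refine (ker_appLE_of_eq (completionToX X 𝓘 n) U ((completionAlong X 𝓘).lvU hX n (iO 𝓘 U)) _
    (lvU_p (completionAlong X 𝓘) hX (completionToX X 𝓘) (completionToX_comm X 𝓘) n U)).trans ?_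
  refine (Scheme.IdealSheafData.ker_subschemeι_app (𝓘 ^ (n + 1)) ⟨U, hU⟩).trans ?_
  rw [Scheme.IdealSheafData.ideal_pow]
  rfl

theorem isAffineOpen_iO {U : X.Opens} (hU : IsAffineOpen U) : IsAffineOpen (iO 𝓘 U) := by
  have : IsClosedImmersion (completionToX X 𝓘 0) :=
    inferInstanceAs (IsClosedImmersion (𝓘 ^ (0 + 1)).subschemeι)
  exact hU.preimage _

theorem isAffineOpen_lvU_iO {U : X.Opens} (hU : IsAffineOpen U) :
    IsAffineOpen ((completionAlong X 𝓘).lvU hX 0 (iO 𝓘 U)) := by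
  rw [lvU_zero]
  exact isAffineOpen_iO 𝓘 hU

variable [IsLocallyNoetherian X]

include 𝓘 in
theorem isLocNoethFormal : (completionAlong X 𝓘).IsLocNoethFormal := Groth.Agent.S3854.result X 𝓘

section Aff

variable {U : X.Opens} (hU : IsAffineOpen U)

include hU

/-- The ideal of `X_0` over `Û` is generated by `𝓘(U)`. -/
theorem II_eq : II (completionAlong X 𝓘) hX (iO 𝓘 U) = (𝓘.ideal ⟨U, hU⟩).map (cs 𝓘 hX U) := by
  have h𝔛 := isLocNoethFormal 𝓘
  have hV := isAffineOpen_lvU_iO 𝓘 hX hU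
  have hm := K919.AffBasic.main h𝔛 hV
  have hc := hm.1
  apply le_antisymm
  · refine Submodule.le_of_le_smul_of_le_jacobson_bot (I := II (completionAlong X 𝓘) hX (iO 𝓘 U)) hm.2.2
      (IsAdicComplete.le_jacobson_bot _) ?_
    intro a ha
    obtain ⟨a₀, ha₀⟩ := pr_cs_surjective 𝓘 hX 1 hU (pr (completionAlong X 𝓘) hX 1 (iO 𝓘 U) a)
    have h1 : a - cs 𝓘 hX U a₀ ∈ II (completionAlong X 𝓘) hX (iO 𝓘 U) ^ (1 + 1) := by
      rw [← (hm.2.1 1).2, RingHom.mem_ker, map_sub, sub_eq_zero]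
      exact ha₀.symm
    have h2 : a₀ ∈ 𝓘.ideal ⟨U, hU⟩ := by
      have h3 := ker_pr_cs 𝓘 hX 0 hU
      rw [zero_add, pow_one] at h3
      rw [← h3, RingHom.mem_ker]
      have h4 : cs 𝓘 hX U a₀ ∈ II (completionAlong X 𝓘) hX (iO 𝓘 U) := by
        have h5 : cs 𝓘 hX U a₀ = a - (a - cs 𝓘 hX U a₀) := by ring
        rw [h5]
        exact Ideal.sub_mem _ ha (Ideal.pow_le_self (by norm_num) h1)
      exact h4
    have h6 : a = cs 𝓘 hX U a₀ + (a - cs 𝓘 hX U a₀) := by ring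
    rw [h6]
    refine Submodule.add_mem_sup (Ideal.mem_map_of_mem _ h2) ?_
    rw [smul_eq_mul, ← pow_two]
    exact h1
  · rw [Ideal.map_le_iff_le_comap]
    intro a ha
    have h3 := ker_pr_cs 𝓘 hX 0 hU
    rw [zero_add, pow_one] at h3
    rw [← h3] at ha
    exact ha

/-- Approximation of sections of `O_X̂` by sections of `O_X`. -/
theorem exists_sub_mem (n : ℕ) (a : OU (completionAlong X 𝓘) hX (iO 𝓘 U)) :
    ∃ a₀ : Γ(X, U), a - cs 𝓘 hX U a₀ ∈ (𝓘.ideal ⟨U, hU⟩ ^ (n + 1)).map (cs 𝓘 hX U) := by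
  have h𝔛 := isLocNoethFormal 𝓘
  have hV := isAffineOpen_lvU_iO 𝓘 hX hU
  have hm := K919.AffBasic.main h𝔛 hV
  obtain ⟨a₀, ha₀⟩ := pr_cs_surjective 𝓘 hX n hU (pr (completionAlong X 𝓘) hX n (iO 𝓘 U) a)
  refine ⟨a₀, ?_⟩
  rw [Ideal.map_pow, ← II_eq 𝓘 hX hU, ← (hm.2.1 n).2, RingHom.mem_ker, map_sub, sub_eq_zero]
  exact ha₀.symm

end Aff

end K179.ComplRing
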