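import Groth.Agent.S0057
import Groth.Agent.S0058
import Groth.Agent.FormalB.ModPow

/-!
# Formal functions for an arbitrary model of the completion

`X` proper over `Spec A`, `M` coherent, `T` an inverse system with compatible maps `q n : M ⟶ T n` which are
quotients by `I^(n+1)`. On the cohomology groups `H^p`:

* `hm_eq_zero`: `I^(n+1) H^p(M)` goes to zero in `H^p(T n)`;
* `exists_ker`: the kernel of `H^p(M) → H^p(T n)` lies in `I^(n-c) H^p(M)` for `n ≥ c`;
* `exists_range`: the image of `H^p(T k) → H^p(T n)` lies in the image of `H^p(M)` for `k ≥ n + c`.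
-/

set_option autoImplicit false
universe u

open CategoryTheory CategoryTheory.Limits AlgebraicGeometry Opposite

namespace K179.FFGen

open Groth.Agent.FormalB.ModPow

/-- The map on cohomology. -/
noncomputable def hm {X : Scheme.{u}} {M N : X.Modules} (φ : M ⟶ N) (p : ℕ) : Coh.HH X M p →+ Coh.HH X N p :=
  Sheaf.H.map ((SheafOfModules.toSheaf _).map φ) p

theorem hm_comp {X : Scheme.{u}} {M N P : X.Modules} (φ : M ⟶ N) (ψ : N ⟶ P) (p : ℕ) (x : Coh.HH X M p) :
    hm (φ ≫ ψ) p x = hm ψ p (hm φ p x) := (Formal.HHmap_comp φ ψ p x).symm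

theorem hm_id {X : Scheme.{u}} (M : X.Modules) (p : ℕ) (x : Coh.HH X M p) : hm (𝟙 M) p x = x :=
  (congrArg (fun φ => Sheaf.H.map φ p x) ((SheafOfModules.toSheaf X.ringCatSheaf).map_id M)).trans
    (Sheaf.H.map_id_apply x)

variable {A : Type u} [CommRing A] {I : Ideal A} {X : Scheme.{u}} [X.Over (Spec (CommRingCat.of A))]
  {M : X.Modules} {T : ℕᵒᵖ ⥤ X.Modules} (q : ∀ n : ℕ, M ⟶ T.obj (op n))
  (hq : ∀ n, IsModPow (I ^ (n + 1)) (q n)) (p : ℕ)

include hq in
theorem hm_eq_zero (n : ℕ) (x : Coh.HH X M p) (hx : x ∈ (I ^ (n + 1) • (⊤ : Submodule A (Coh.HH X M p)))) :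
    hm (q n) p x = 0 := by
  refine Submodule.smul_induction_on hx (fun a ha y _ => ?_) (fun y z hy hz => ?_)
  · have h1 : Formal.smulMod A M a ≫ q n = 0 := (hq n).smul_comp a ha
    have h2 : hm (Formal.smulMod A M a ≫ q n) p y = hm (q n) p (a • y) := hm_comp _ _ p y
    rw [← h2, h1]
    exact Groth.Agent.CohqB.HLes.Hmap_zero _ _ p y
  · rw [map_add, hy, hz, add_zero]

variable (hqt : ∀ n, q (n + 1) ≫ T.map (homOfLE (Nat.le_succ n)).op = q n)

/-- The comparison with the completion. -/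
noncomputable def eC : Formal.completion I M ≅ T := completionIso I q hq hqt

theorem cπ_eC (n : ℕ) : cπ I M n ≫ (eC q hq hqt).hom.app (op n) = q n :=
  cπ_completionIso_hom I q hq hqt n

variable [IsNoetherianRing A] [IsProper (X ↘ Spec (CommRingCat.of A))] (hM : Coh.IsCoh M)

include hq hqt hM in
theorem exists_ker : ∃ c : ℕ, ∀ n, c ≤ n → ∀ x : Coh.HH X M p, hm (q n) p x = 0 →
    x ∈ (I ^ (n - c) • (⊤ : Submodule A (Coh.HH X M p))) := by
  obtain ⟨c, hc⟩ := Groth.Agent.S0057.result A I X M hM p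
  refine ⟨c, fun n hn x hx => hc n hn ?_⟩
  have h1 : hm (cπ I M n) p x = 0 := by
    have h2 : cπ I M n = q n ≫ (eC q hq hqt).inv.app (op n) := by
      rw [← cπ_eC q hq hqt n, Category.assoc, Iso.hom_inv_id_app, Category.comp_id]
    rw [h2, hm_comp, hx, map_zero]
  exact h1

include hq hqt hM in
theorem exists_range : ∃ c : ℕ, ∀ (n k : ℕ) (h : n ≤ k), n + c ≤ k → ∀ y : Coh.HH X (T.obj (op k)) p,
    ∃ x : Coh.HH X M p, hm (q n) p x = hm (T.map (homOfLE h).op) p y := by
  obtain ⟨c, hc⟩ := Groth.Agent.S0058.result A I X M hM p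
  refine ⟨c, fun n k h hk y => ?_⟩
  have h1 := hc n k h hk
  have h2 : hm ((Formal.completion I M).map (homOfLE h).op) p (hm ((eC q hq hqt).inv.app (op k)) p y) ∈
      Set.range (Formal.toHHmodPow I M p n) := by
    rw [← h1]
    exact ⟨_, rfl⟩
  obtain ⟨x, hx⟩ := h2
  refine ⟨x, ?_⟩
  have h3 : hm (cπ I M n) p x =
    hm ((Formal.completion I M).map (homOfLE h).op) p (hm ((eC q hq hqt).inv.app (op k)) p y) := hx
  rw [← cπ_eC q hq hqt n, hm_comp, h3, ← hm_comp, ← hm_comp, NatTrans.naturality,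
    ← Category.assoc, Iso.inv_hom_id_app, Category.id_comp]

end K179.FFGen
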