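import Groth.Agent.FSch.K179.LocQuot
import Groth.Agent.FSch.K179.FFGen

/-!
# Formal functions over an affine open of the target
-/

set_option autoImplicit false
universe u

open CategoryTheory CategoryTheory.Limits AlgebraicGeometry Opposite

namespace K179.FFLoc

open FSch K179.LocHH K179.LocQuot K179.FFGen K179.CompSys
open Groth.Agent.Sga2lef.H96.ModSysRec Groth.Agent.Sga2lef.H96.ModSysPush
open Groth.Agent.FormalB.KQuot Groth.Agent.FormalB.TrKQuot Groth.Agent.FormalB.ModPow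

variable {X Y : Scheme.{u}} (f : X ⟶ Y) [IsProper f] (𝓘 : Y.IdealSheafData) (V : Y.Opens)
  [IsAffine V.toScheme]

/-- the affine open `V`. -/
noncomputable def VT : Y.affineOpens := ⟨V.ι ''ᵁ ⊤, (isAffineOpen_top V.toScheme).image_of_isOpenImmersion V.ι⟩

/-- the ideal of `Γ(Y, V)`. -/
noncomputable def idV : Ideal Γ(Y, V.ι ''ᵁ ⊤) := 𝓘.ideal (VT V)

theorem mem_idl_pow_iff (n : ℕ) (a : Γ(Y, V.ι ''ᵁ ⊤)) : a ∈ (idV 𝓘 V) ^ n ↔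
    (show Γ(V.toScheme, ⊤) from a) ∈ idl V 𝓘 ^ n := by
  rw [← idl_pow, idl, Scheme.IdealSheafData.ideal_comap_of_isOpenImmersion, Ideal.mem_comap]
  have h2 : (V.ι.appIso ⊤).inv.hom (show Γ(V.toScheme, ⊤) from a) = a := by
    rw [Scheme.Opens.ι_appIso]; rfl
  rw [h2, Scheme.IdealSheafData.ideal_pow]
  rfl

noncomputable instance ovX : (f ⁻¹ᵁ V).toScheme.Over (Spec (CommRingCat.of Γ(V.toScheme, ⊤))) := ⟨ov f V⟩

instance proper : IsProper ((f ⁻¹ᵁ V).toScheme ↘ Spec (CommRingCat.of Γ(V.toScheme, ⊤))) :=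
  inferInstanceAs (IsProper ((f ∣_ V) ≫ V.toScheme.isoSpec.hom))

omit [IsProper f] in
theorem smul_eq (M : (f ⁻¹ᵁ V).toScheme.Modules) (n : ℕ) (a : Γ(V.toScheme, ⊤)) (z : Coh.HH _ M n) :
    a • z = (show Coh.Γtop (f ⁻¹ᵁ V).toScheme from (f ∣_ V).appTop a) • z :=
  congrArg (fun t : Coh.Γtop (f ⁻¹ᵁ V).toScheme => t • z) (toGlobal_ov f V a)

theorem lhh_smul' (n : ℕ) (M : X.Modules) (hM : Coh.IsQCoh (M.restrict (f ⁻¹ᵁ V).ι))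
    (r : Γ(Y, V.ι ''ᵁ ⊤)) (s : Γ((Coh.Rpush f n).obj M, V.ι ''ᵁ ⊤)) :
    lhh f V n M hM (r • s) = (show Γ(V.toScheme, ⊤) from r) • lhh f V n M hM s :=
  (lhh_smul f V n M hM r s).trans (smul_eq f V _ n r _).symm

theorem lhh_symm_smul (n : ℕ) (M : X.Modules) (hM : Coh.IsQCoh (M.restrict (f ⁻¹ᵁ V).ι))
    (r : Γ(V.toScheme, ⊤)) (z : Coh.HH _ (M.restrict (f ⁻¹ᵁ V).ι) n) :
    (lhh f V n M hM).symm (r • z) = (show Γ(Y, V.ι ''ᵁ ⊤) from r) • (lhh f V n M hM).symm z := by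
  apply (lhh f V n M hM).injective
  rw [AddEquiv.apply_symm_apply, lhh_smul', AddEquiv.apply_symm_apply]

theorem mem_of_lhh_mem (n m : ℕ) (M : X.Modules) (hM : Coh.IsQCoh (M.restrict (f ⁻¹ᵁ V).ι))
    (s : Γ((Coh.Rpush f n).obj M, V.ι ''ᵁ ⊤))
    (hs : lhh f V n M hM s ∈ (idl V 𝓘 ^ m • (⊤ : Submodule Γ(V.toScheme, ⊤)
      (Coh.HH _ (M.restrict (f ⁻¹ᵁ V).ι) n)))) :
    s ∈ ((idV 𝓘 V) ^ m • (⊤ : Submodule Γ(Y, V.ι ''ᵁ ⊤) Γ((Coh.Rpush f n).obj M, V.ι ''ᵁ ⊤))) := by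
  have h := Submodule.smul_induction_on (p := fun z : Coh.HH _ (M.restrict (f ⁻¹ᵁ V).ι) n =>
    (lhh f V n M hM).symm z ∈ ((idV 𝓘 V) ^ m •
      (⊤ : Submodule Γ(Y, V.ι ''ᵁ ⊤) Γ((Coh.Rpush f n).obj M, V.ι ''ᵁ ⊤)))) hs
    (fun a ha z _ => by
      rw [lhh_symm_smul]
      exact Submodule.smul_mem_smul ((mem_idl_pow_iff 𝓘 V m _).2 ha) trivial)
    (fun x y hx hy => by rw [map_add]; exact Submodule.add_mem _ hx hy)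
  rwa [AddEquiv.symm_apply_apply] at h

theorem lhh_mem_of_mem (n m : ℕ) (M : X.Modules) (hM : Coh.IsQCoh (M.restrict (f ⁻¹ᵁ V).ι))
    (s : Γ((Coh.Rpush f n).obj M, V.ι ''ᵁ ⊤))
    (hs : s ∈ ((idV 𝓘 V) ^ m •
      (⊤ : Submodule Γ(Y, V.ι ''ᵁ ⊤) Γ((Coh.Rpush f n).obj M, V.ι ''ᵁ ⊤)))) :
    lhh f V n M hM s ∈ (idl V 𝓘 ^ m • (⊤ : Submodule Γ(V.toScheme, ⊤)
      (Coh.HH _ (M.restrict (f ⁻¹ᵁ V).ι) n))) := by
  refine Submodule.smul_induction_on (p := fun z : Γ((Coh.Rpush f n).obj M, V.ι ''ᵁ ⊤) =>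
    lhh f V n M hM z ∈ (idl V 𝓘 ^ m • (⊤ : Submodule Γ(V.toScheme, ⊤)
      (Coh.HH _ (M.restrict (f ⁻¹ᵁ V).ι) n)))) hs
    (fun a ha z _ => ?_) (fun x y hx hy => ?_)
  · rw [lhh_smul']
    exact Submodule.smul_mem_smul ((mem_idl_pow_iff 𝓘 V m _).1 ha) trivial
  · rw [map_add]; exact Submodule.add_mem _ hx hy


section Level

variable {F : X.Modules}

/-- The maps on sections. -/
noncomputable def fk (F : X.Modules) (n k : ℕ) : Γ((Coh.Rpush f n).obj F, V.ι ''ᵁ ⊤) →+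
    Γ((Coh.Rpush f n).obj (pm (complMod (𝓘.comap f) F) k), V.ι ''ᵁ ⊤) :=
  (((Coh.Rpush f n).map (un (𝓘.comap f) F k)).app (V.ι ''ᵁ ⊤)).hom

/-- The restricted system. -/
noncomputable def TV (F : X.Modules) : ℕᵒᵖ ⥤ (f ⁻¹ᵁ V).toScheme.Modules :=
  toSys (complMod (𝓘.comap f) F) ⋙ Scheme.Modules.restrictFunctor (f ⁻¹ᵁ V).ι

/-- The restricted maps. -/
noncomputable def qV (F : X.Modules) (k : ℕ) : F.restrict (f ⁻¹ᵁ V).ι ⟶ (TV f 𝓘 V F).obj (op k) :=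
  (Scheme.Modules.restrictFunctor (f ⁻¹ᵁ V).ι).map (un (𝓘.comap f) F k)

omit [IsProper f] [IsAffine V.toScheme] in
theorem qV_trans (F : X.Modules) (k : ℕ) :
    qV f 𝓘 V F (k + 1) ≫ (TV f 𝓘 V F).map (homOfLE (Nat.le_succ k)).op = qV f 𝓘 V F k :=
  ((Scheme.Modules.restrictFunctor (f ⁻¹ᵁ V).ι).map_comp _ _).symm.trans
    (congrArg (Scheme.Modules.restrictFunctor (f ⁻¹ᵁ V).ι).map (un_toSys (𝓘.comap f) F k))

omit [IsProper f] [IsAffine V.toScheme] in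
theorem isQCoh_pm (hF : Coh.IsQCoh F) (k : ℕ) : Coh.IsQCoh (pm (complMod (𝓘.comap f) F) k) :=
  IsKQuot.isQCoh (isKQuot_un (𝓘.comap f) hF k) hF

omit [IsProper f] in
theorem isModPow_qV (hF : Coh.IsQCoh F) (k : ℕ) : IsModPow (idl V 𝓘 ^ (k + 1)) (qV f 𝓘 V F k) :=
  isModPow_res f V 𝓘 hF (isQCoh_pm f 𝓘 hF k) (isKQuot_un (𝓘.comap f) hF k)

omit [IsProper f] [IsAffine V.toScheme] in
theorem isQCoh_TV (hF : Coh.IsQCoh F) (k : ℕ) :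
    Coh.IsQCoh ((pm (complMod (𝓘.comap f) F) k).restrict (f ⁻¹ᵁ V).ι) :=
  Groth.Agent.PerfA.QCohSerre.isQCoh_restrict _ (isQCoh_pm f 𝓘 hF k)

theorem lhh_fk (hF : Coh.IsQCoh F) (n k : ℕ) (s : Γ((Coh.Rpush f n).obj F, V.ι ''ᵁ ⊤)) :
    lhh f V n _ (isQCoh_TV f 𝓘 V hF k) (fk f 𝓘 V F n k s) =
      hm (qV f 𝓘 V F k) n (lhh f V n F (Groth.Agent.PerfA.QCohSerre.isQCoh_restrict _ hF) s) :=
  lhh_naturality f V n _ _ (un (𝓘.comap f) F k) s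

theorem fk_eq_zero (hF : Coh.IsQCoh F) (n k : ℕ) (s : Γ((Coh.Rpush f n).obj F, V.ι ''ᵁ ⊤))
    (hs : s ∈ ((idV 𝓘 V) ^ (k + 1) •
      (⊤ : Submodule Γ(Y, V.ι ''ᵁ ⊤) Γ((Coh.Rpush f n).obj F, V.ι ''ᵁ ⊤)))) :
    fk f 𝓘 V F n k s = 0 := by
  apply (lhh f V n _ (isQCoh_TV f 𝓘 V hF k)).injective
  rw [lhh_fk f 𝓘 V hF, map_zero]
  exact hm_eq_zero (qV f 𝓘 V F) (isModPow_qV f 𝓘 V hF) n k _ (lhh_mem_of_mem f 𝓘 V n (k + 1) F _ s hs)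

/-- The direct image of the quotient is killed. -/
theorem smul_Rpush_eq_zero (hF : Coh.IsQCoh F) (n k : ℕ) (a : Γ(Y, V.ι ''ᵁ ⊤)) (ha : a ∈ (idV 𝓘 V) ^ (k + 1))
    (s : Γ((Coh.Rpush f n).obj (pm (complMod (𝓘.comap f) F) k), V.ι ''ᵁ ⊤)) : a • s = 0 := by
  apply (lhh f V n _ (isQCoh_TV f 𝓘 V hF k)).injective
  rw [lhh_smul', map_zero]
  have h := (isModPow_qV f 𝓘 V hF k).killedBy _ ((mem_idl_pow_iff 𝓘 V (k + 1) a).1 ha)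
  have h2 : (show Γ(V.toScheme, ⊤) from a) • lhh f V n _ (isQCoh_TV f 𝓘 V hF k) s =
    hm (Formal.smulMod Γ(V.toScheme, ⊤) ((TV f 𝓘 V F).obj (op k)) (show Γ(V.toScheme, ⊤) from a)) n
      (lhh f V n _ (isQCoh_TV f 𝓘 V hF k) s) := rfl
  rw [h2]
  refine (congrArg (fun t => hm t n (lhh f V n _ (isQCoh_TV f 𝓘 V hF k) s)) h).trans ?_
  exact Groth.Agent.CohqB.HLes.Hmap_zero _ _ n _

variable [IsLocallyNoetherian Y]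

omit [IsProper f] in
theorem noeth : IsNoetherianRing Γ(V.toScheme, ⊤) :=
  IsLocallyNoetherian.component_noetherian (X := V.toScheme) ⟨⊤, isAffineOpen_top _⟩

omit [IsAffine V.toScheme] [IsProper f] in
theorem isCoh_res (hF : Coh.IsCoh F) : Coh.IsCoh (F.restrict (f ⁻¹ᵁ V).ι) :=
  Groth.Agent.CohqB.LocalQC.isCoh_restrict _ hF

theorem exists_ker_fk (hF : Coh.IsCoh F) (n : ℕ) : ∃ c : ℕ, ∀ k, c ≤ k →
    ∀ s : Γ((Coh.Rpush f n).obj F, V.ι ''ᵁ ⊤), fk f 𝓘 V F n k s = 0 →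
      s ∈ ((idV 𝓘 V) ^ (k - c) •
        (⊤ : Submodule Γ(Y, V.ι ''ᵁ ⊤) Γ((Coh.Rpush f n).obj F, V.ι ''ᵁ ⊤))) := by
  have := noeth (Y := Y) V
  obtain ⟨c, hc⟩ := exists_ker (qV f 𝓘 V F) (isModPow_qV f 𝓘 V hF.1) n (qV_trans f 𝓘 V F)
    (isCoh_res f V hF)
  refine ⟨c, fun k hk s hs => mem_of_lhh_mem f 𝓘 V n (k - c) F
    (Groth.Agent.PerfA.QCohSerre.isQCoh_restrict _ hF.1) s (hc k hk _ ?_)⟩
  exact ((lhh_fk f 𝓘 V hF.1 n k s).symm.trans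
    (congrArg (lhh f V n _ (isQCoh_TV f 𝓘 V hF.1 k)) hs)).trans (map_zero _)

theorem exists_range_fk (hF : Coh.IsCoh F) (n : ℕ) : ∃ c : ℕ, ∀ (m k : ℕ) (h : m ≤ k), m + c ≤ k →
    ∀ y : Γ((Coh.Rpush f n).obj ((toSys (complMod (𝓘.comap f) F)).obj (op k)), V.ι ''ᵁ ⊤),
      ∃ s : Γ((Coh.Rpush f n).obj F, V.ι ''ᵁ ⊤), fk f 𝓘 V F n m s =
        ((Coh.Rpush f n).map ((toSys (complMod (𝓘.comap f) F)).map (homOfLE h).op)).app (V.ι ''ᵁ ⊤) y := by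
  have := noeth (Y := Y) V
  obtain ⟨c, hc⟩ := exists_range (qV f 𝓘 V F) (isModPow_qV f 𝓘 V hF.1) n (qV_trans f 𝓘 V F)
    (isCoh_res f V hF)
  refine ⟨c, fun m k h hk y => ?_⟩
  obtain ⟨x, hx⟩ := hc m k h hk (lhh f V n _ (isQCoh_TV f 𝓘 V hF.1 k) y)
  refine ⟨(lhh f V n F (Groth.Agent.PerfA.QCohSerre.isQCoh_restrict _ hF.1)).symm x, ?_⟩
  apply (lhh f V n _ (isQCoh_TV f 𝓘 V hF.1 m)).injective
  rw [lhh_fk f 𝓘 V hF.1, AddEquiv.apply_symm_apply]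
  refine hx.trans ?_
  exact (lhh_naturality f V n (isQCoh_TV f 𝓘 V hF.1 k) (isQCoh_TV f 𝓘 V hF.1 m)
    ((toSys (complMod (𝓘.comap f) F)).map (homOfLE h).op) y).symm

end Level

end K179.FFLoc
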