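import Groth.Agent.FSch.K179.LimCohProper
import Groth.Agent.FSch.K179.PushLim
import Groth.Agent.FSch.K179.CompSys
import Groth.Agent.FSch.K179.RealMod
import Groth.Agent.S0459

/-!
# Cohomology on a completion

`H^n(X̂, 𝔉) = H^n(X, T_* 𝔉)`; `S13650` modulo `S13339`.
-/

set_option autoImplicit false
universe u

open CategoryTheory CategoryTheory.Limits AlgebraicGeometry Opposite TopologicalSpace

namespace K179.HFEquiv

open FSch K179.Iface K179.RealMod K179.CompSys K179.PushLim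
open Groth.Agent.Sga2lef.H96.ModSysFormal Groth.Agent.Sga2lef.H96.ModSysPush
open Groth.Agent

/-- The part of `S13339` used here. -/
def P13339 : Prop := ∀ (X : Scheme.{u}) [IsLocallyNoetherian X] (𝓘 : X.IdealSheafData)
    (h : (FSch.completionAlong X 𝓘).IsFormal) (F : X.Modules) (_ : Coh.IsCoh F),
    Nonempty ((FSch.toSchemeMor (FSch.completionAlong X 𝓘) h (FSch.completionToX X 𝓘)
      (FSch.completionToX_comm X 𝓘)).pull.obj F ≅ (FSch.complMod 𝓘 F).realMod h)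

variable {X : Scheme.{u}} (𝓘 : X.IdealSheafData) (hX : (completionAlong X 𝓘).IsFormal)

theorem isClosedEmbedding_base : Topology.IsClosedEmbedding (completionToX X 𝓘 0).base :=
  have : IsClosedImmersion (completionToX X 𝓘 0) :=
    inferInstanceAs (IsClosedImmersion (𝓘 ^ (0 + 1)).subschemeι)
  (completionToX X 𝓘 0).isClosedEmbedding

/-- The underlying abelian sheaf of `T_* 𝔉`. -/
noncomputable def toAbPush (𝔉 : ModF (completionAlong X 𝓘) hX) :
    (CohTop.push (completionToX X 𝓘 0).base).obj (ModSite.toAb 𝔉) ≅ Coh.toAb ((TC hX).obj 𝔉) :=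
  Iso.refl _

/-- `H^n(X̂, 𝔉) = H^n(X, T_* 𝔉)`. -/
theorem nonempty_HF_equiv (𝔉 : ModF (completionAlong X 𝓘) hX) (n : ℕ) :
    Nonempty (HF (completionAlong X 𝓘) hX 𝔉 n ≃+ Coh.HH X ((TC hX).obj 𝔉) n) :=
  S0459.result (completionToX X 𝓘 0).base (isClosedEmbedding_base 𝓘) (ModSite.toAb 𝔉) n

/-- Cohomology of isomorphic modules. -/
theorem nonempty_HH_equiv {M N : X.Modules} (e : M ≅ N) (n : ℕ) : Nonempty (Coh.HH X M n ≃+ Coh.HH X N n) :=
  ⟨((LimCoh.HHF X n).mapIso e).addCommGroupIsoToAddEquiv⟩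

theorem nonempty_H_equiv {Y : TopCat.{u}} {F G : CohTop.Ab Y} (e : F ≅ G) (n : ℕ) :
    Nonempty (CohTop.H F n ≃+ CohTop.H G n) :=
  ⟨{ toFun := Sheaf.H.map e.hom n
     invFun := Sheaf.H.map e.inv n
     left_inv := fun x => by
       rw [← Sheaf.H.map_comp_apply, e.hom_inv_id, Sheaf.H.map_id_apply]
     right_inv := fun x => by
       rw [← Sheaf.H.map_comp_apply, e.inv_hom_id, Sheaf.H.map_id_apply]
     map_add' := map_add _ }⟩

theorem nonempty_HF_equiv_of_iso {𝔛 : Sys.{u}} (h : 𝔛.IsFormal) {M N : ModF 𝔛 h} (e : M ≅ N) (n : ℕ) :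
    Nonempty (HF 𝔛 h M n ≃+ HF 𝔛 h N n) := by
  let e' : ModSite.toAb M ≅ ModSite.toAb N := (SheafOfModules.toSheaf _).mapIso e
  exact nonempty_H_equiv (Y := (𝔛.X 0).carrier) e' n

/-- `S13650` modulo `S13339`. -/
theorem main (h39 : P13339.{u}) (A : Type u) [CommRing A] [IsNoetherianRing A]
    (I : Ideal A) (X : Scheme.{u}) [X.Over (Spec (CommRingCat.of A))] [IsProper (X ↘ Spec (CommRingCat.of A))]
    (𝓚 : X.IdealSheafData) (h𝓚 : 𝓚 = (FSch.idealSpec A I).comap (X ↘ Spec (CommRingCat.of A)))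
    (hX : (FSch.completionAlong X 𝓚).IsFormal) (F : X.Modules) (hF : Coh.IsCoh F) (n : ℕ) :
    Nonempty (FSch.HF (FSch.completionAlong X 𝓚) hX ((FSch.toSchemeMor (FSch.completionAlong X 𝓚) hX
      (FSch.completionToX X 𝓚) (FSch.completionToX_comm X 𝓚)).pull.obj F) n ≃+ Formal.HHlim I F n) := by
  have : IsNoetherianRing (CommRingCat.of A) := ‹IsNoetherianRing A›
  have hXn : IsLocallyNoetherian X := LocallyOfFiniteType.isLocallyNoetherian (X ↘ Spec (CommRingCat.of A))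
  have hgen : IsGenBy I 𝓚 := by
    rw [h𝓚]
    exact isGenBy_comap I
  obtain ⟨i⟩ := h39 X 𝓚 hX F hF
  obtain ⟨e1⟩ := nonempty_HF_equiv_of_iso hX i n
  obtain ⟨e2⟩ := nonempty_HF_equiv 𝓚 hX ((complMod 𝓚 F).realMod hX) n
  obtain ⟨e3⟩ := nonempty_HH_equiv (pushRealMod hX (complMod 𝓚 F) ≪≫
    (lim.mapIso (compIso hgen hF.1)).symm) n
  obtain ⟨e4⟩ := LimCoh.nonempty_equiv I F hF n
  exact ⟨((e1.trans e2).trans e3).trans e4⟩

end K179.HFEquiv
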