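import Groth.Prelude.Def_FSch5
import Groth.Prelude.Def_FSch6
import Groth.Agent.Sga2lef.H96.ModSysFormal

/-!
# Interface statements (as `Prop`s) and `complMod` versus `completionMod`

The `Prop`s `P13334`, ... are the statements of the milestones `S13334`, ...; they are used as hypotheses, so that
nothing in this folder depends on unproved constants.
-/

set_option autoImplicit false
universe u

open CategoryTheory CategoryTheory.Limits AlgebraicGeometry Opposite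

namespace K179.Iface

open FSch

/-- The statement of `S13334`. -/
def P13334 : Prop := ∀ (𝔛 : FSch.Sys.{u}) (h𝔛 : 𝔛.IsLocNoethFormal) (𝔐 : FSch.ModSys 𝔛)
    (_ : 𝔐.IsCoh), FSch.IsCohF 𝔛 h𝔛.1 (𝔐.realMod h𝔛.1)

/-- The statement of `S13335`. -/
def P13335 : Prop := ∀ (𝔛 : FSch.Sys.{u}) (h𝔛 : 𝔛.IsLocNoethFormal)
    (𝔉 : FSch.ModF 𝔛 h𝔛.1) (_ : FSch.IsCohF 𝔛 h𝔛.1 𝔉),
    ∃ 𝔐 : FSch.ModSys 𝔛, 𝔐.IsCoh ∧ Nonempty (𝔉 ≅ 𝔐.realMod h𝔛.1)

/-- The statement of `S13336`. -/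
def P13336 : Prop := ∀ (𝔛 : FSch.Sys.{u}) (h𝔛 : 𝔛.IsLocNoethFormal) (𝔐 : FSch.ModSys 𝔛)
    (_ : 𝔐.IsCoh) (k : ℕ),
    IsIso (((FSch.levelMor 𝔛 h𝔛.1 k).adj.homEquiv _ _).symm (FSch.realProj 𝔛 h𝔛.1 𝔐.F 𝔐.toPush k))

/-- The statement of `S13337`. -/
def P13337 : Prop := ∀ (𝔛 : FSch.Sys.{u}) (h𝔛 : 𝔛.IsLocNoethFormal) (𝔐 𝔑 : FSch.ModSys 𝔛)
    (_ : 𝔐.IsCoh) (_ : 𝔑.IsCoh),
    Function.Bijective (fun φ : 𝔐 ⟶ 𝔑 => FSch.ModSys.realModMap h𝔛.1 φ)

/-- The statement of `S13340`. -/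
def P13340 : Prop := ∀ (X : Scheme.{u}) [IsLocallyNoetherian X] (𝓘 : X.IdealSheafData)
    (h : (FSch.completionAlong X 𝓘).IsFormal) (S : ShortComplex X.Modules) (_ : S.ShortExact)
    (_ : Coh.IsCoh S.X₁) (_ : Coh.IsCoh S.X₂) (_ : Coh.IsCoh S.X₃),
    FSch.ModSys.realModMap h (FSch.complModMap 𝓘 S.f) ≫ FSch.ModSys.realModMap h (FSch.complModMap 𝓘 S.g) = 0 ∧
      ∀ w : FSch.ModSys.realModMap h (FSch.complModMap 𝓘 S.f) ≫ FSch.ModSys.realModMap h (FSch.complModMap 𝓘 S.g) = 0,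
        (ShortComplex.mk _ _ w).ShortExact

section Compl

variable {X : Scheme.{u}} (𝓘 : X.IdealSheafData) (F : X.Modules)

open Groth.Agent.Sga2lef.H96.ModSysRec

theorem trans_app {C D : Type*} [Category* C] [Category* D] {F G H : C ⥤ D} (a : F ≅ G) (b : G ≅ H) (x : C) :
    (a ≪≫ b).app x = a.app x ≪≫ b.app x := by
  ext
  rfl

theorem complTransIso_app (n : ℕ) : (complTransIso 𝓘 n).app F = ee 𝓘 F n := by
  rw [ee_eq, e1_eq, e2_eq]
  unfold complTransIso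
  exact trans_app _ _ _

theorem complMod_eq_cmOf : complMod 𝓘 F = cmOf 𝓘 F (fun n => (complTransIso 𝓘 n).app F) := by
  unfold complMod cmOf
  rfl

/-- The two frozen spellings of the completed module coincide. -/
theorem complMod_eq_completionMod : complMod 𝓘 F = completionMod 𝓘 F := by
  rw [complMod_eq_cmOf, completionMod_eq_ee]
  exact congrArg (cmOf 𝓘 F) (funext fun n => complTransIso_app 𝓘 F n)

end Compl

end K179.Iface
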