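import Groth.Agent.S0058
import Groth.Agent.S0827
import Groth.Agent.FormalB.MilnorZero
import Groth.Agent.FormalB.ModPow
import Groth.Agent.Ega3A.MLNat

/-!
# Cohomology of the limit of a tower

`toLim_bijective : H^n(X, lim_k G_k) ≃ lim_k H^n(X, G_k)` for a quasi-coherent formal system with Mittag-Leffler
`H^{n-1}`.
-/

set_option autoImplicit false
universe u

open CategoryTheory CategoryTheory.Limits AlgebraicGeometry Opposite TopologicalSpace

namespace K179.LimCoh

/-- `R^1 lim` vanishes for a tower of abelian groups with the uniform Mittag-Leffler condition. -/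
theorem subsingleton_limOne_of_isMittagLeffler (F : ℕᵒᵖ ⥤ AddCommGrpCat.{u})
    (hF : (F ⋙ forget AddCommGrpCat).IsMittagLeffler) :
    Subsingleton (Formal2.limOne (fun n => F.obj (op n))
      (fun n => (F.map (homOfLE (Nat.le_succ n)).op).hom)) := by
  refine ⟨fun a b => ?_⟩
  have h0 : ∀ a : Formal2.limOne (fun n => F.obj (op n))
      (fun n => (F.map (homOfLE (Nat.le_succ n)).op).hom), a = 0 := by
    intro a
    obtain ⟨t, rfl⟩ := QuotientAddGroup.mk_surjective a
    rw [QuotientAddGroup.eq_zero_iff]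
    obtain ⟨s, hs⟩ := Groth.Agent.Ega3A.MLNat.exists_sub_shift hF t
    exact ⟨s, funext hs⟩
  rw [h0 a, h0 b]

/-- The functor `N ↦ H^p(X, N)`. -/
noncomputable def HHF (X : Scheme.{u}) (p : ℕ) : X.Modules ⥤ AddCommGrpCat.{u} :=
  SheafOfModules.toSheaf X.ringCatSheaf ⋙ Sheaf.functorH (Opens.grothendieckTopology X) p

section HH

variable {X : Scheme.{u}} (G : ℕᵒᵖ ⥤ X.Modules)

/-- The component of `H^n(X, lim G) → H^n(X, G_k)`. -/
noncomputable def cmpt (n k : ℕ) : Coh.HH X (limit G) n →+ Coh.HH X (G.obj (op k)) n :=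
  Sheaf.H.map ((SheafOfModules.toSheaf _).map (limit.π G (op k))) n

theorem sysMap_cmpt (n k : ℕ) (x : Coh.HH X (limit G) n) :
    Formal2.HHsysMap G n k (cmpt G n (k + 1) x) = cmpt G n k x :=
  (Formal.HHmap_comp (limit.π G (op (k + 1))) (G.map (homOfLE (Nat.le_succ k)).op) n x).trans
    (congrArg (fun φ => Sheaf.H.map ((SheafOfModules.toSheaf _).map φ) n x) (limit.w G _))

/-- Elementwise form of "`H^n(X, lim G) → lim H^n(X, G_k)` is bijective". -/
structure IsLimH (n : ℕ) : Prop where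
  inj : ∀ x : Coh.HH X (limit G) n, (∀ k, cmpt G n k x = 0) → x = 0
  surj : ∀ y : ∀ k, Coh.HH X (G.obj (op k)) n, (∀ k, Formal2.HHsysMap G n k (y (k + 1)) = y k) →
    ∃ x : Coh.HH X (limit G) n, ∀ k, cmpt G n k x = y k

theorem isLimH_zero : IsLimH G 0 where
  inj x h := Groth.Agent.FormalB.Milnor.HH_zero_eq G x 0 fun k => (h k).trans (map_zero _).symm
  surj y hy := Groth.Agent.FormalB.Milnor.exists_HH_zero G y hy

theorem isLimH_succ {A : Type u} [CommRing A] (I : Ideal A) [X.Over (Spec (CommRingCat.of A))]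
    (hG : Formal2.IsQCohFormal I G) (p : ℕ)
    (hML : ((G ⋙ HHF X p) ⋙ forget AddCommGrpCat).IsMittagLeffler) : IsLimH G (p + 1) := by
  obtain ⟨α, β, -, hβ, hαβ, hβx⟩ := Groth.Agent.S0827.result A I X G hG p
  have h0 : Subsingleton (Formal2.limOne (fun n => Coh.HH X (G.obj (op n)) p)
      (Formal2.HHsysMap G p)) :=
    subsingleton_limOne_of_isMittagLeffler (G ⋙ HHF X p) hML
  have hker : β.ker = ⊥ := by
    rw [← hαβ, eq_bot_iff]
    rintro _ ⟨z, rfl⟩
    rw [Subsingleton.elim z 0, map_zero]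
    exact AddSubgroup.zero_mem _
  constructor
  · intro x h
    have h1 : x ∈ β.ker := AddMonoidHom.mem_ker.2 (Subtype.ext (funext fun k => (hβx x k).trans (h k)))
    rw [hker] at h1
    exact h1
  · intro y hy
    have h3 : y ∈ Formal2.limZero (fun n => Coh.HH X (G.obj (op n)) (p + 1))
        (Formal2.HHsysMap G (p + 1)) := by
      refine AddMonoidHom.mem_ker.2 (funext fun k => ?_)
      exact sub_eq_zero.2 (hy k).symm
    obtain ⟨x, hx⟩ := hβ ⟨y, h3⟩
    refine ⟨x, fun k => ?_⟩
    refine (hβx x k).symm.trans ?_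
    rw [hx]

end HH

end K179.LimCoh
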