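import Groth.Agent.FSch.K179.LimCoh

/-!
# Cohomology of `lim F/I^{k+1}F` for proper schemes

`isLimH : IsLimH (Formal.completion I M) n` and `nonempty_equiv : H^n(X, lim_k M/I^{k+1}M) ≃+ HHlim I M n` for `X`
proper over a Noetherian ring and `M` coherent.
-/

set_option autoImplicit false
universe u

open CategoryTheory CategoryTheory.Limits AlgebraicGeometry Opposite TopologicalSpace

namespace K179.LimCoh

open Groth.Agent.FormalB.ModPow

variable {A : Type u} [CommRing A] (I : Ideal A) {X : Scheme.{u}} [X.Over (Spec (CommRingCat.of A))]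
  (M : X.Modules) [IsNoetherianRing A] [IsProper (X ↘ Spec (CommRingCat.of A))] (hM : Coh.IsCoh M)

include hM in
/-- The systems `H^p(X, M/I^{k+1}M)` satisfy the Mittag-Leffler condition. -/
theorem isMittagLeffler (p : ℕ) :
    ((Formal.completion I M ⋙ HHF X p) ⋙ forget AddCommGrpCat).IsMittagLeffler := by
  obtain ⟨c, hc⟩ := Groth.Agent.S0058.result A I X M hM p
  intro j
  refine ⟨op (j.unop + c), (homOfLE (Nat.le_add_right j.unop c)).op, fun k g => ?_⟩
  have h1 := hc j.unop (j.unop + c) (Nat.le_add_right j.unop c) le_rfl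
  have h2 : Set.range (Formal.toHHmodPow I M p j.unop) ⊆
      Set.range (((Formal.completion I M ⋙ HHF X p) ⋙ forget AddCommGrpCat).map g) := by
    rintro _ ⟨x, rfl⟩
    refine ⟨Formal.toHHmodPow I M p k.unop x, ?_⟩
    refine (Formal.HHmap_comp (Formal.modPowπ I (k.unop + 1) M) ((Formal.completion I M).map g) p x).trans
      (congrArg (fun φ => Sheaf.H.map ((SheafOfModules.toSheaf _).map φ) p x) ?_)
    exact cπ_map I M g.unop.le
  exact h1.subset.trans h2

include hM in
/-- `H^n(X, lim_k M/I^{k+1}M) = lim_k H^n(X, M/I^{k+1}M)`, elementwise. -/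
theorem isLimH_completion (n : ℕ) : IsLimH (Formal.completion I M) n := by
  cases n with
  | zero => exact isLimH_zero _
  | succ p =>
    have hG : Formal2.IsQCohFormal I (Formal.completion I M) := by
      rw [isQCohFormal_iff]
      exact ⟨fun k => Groth.Agent.FormalB.ModPowAff.isQCoh_modPow I (k + 1) M hM.1, isFormal_completion I M⟩
    exact isLimH_succ _ I hG p (isMittagLeffler I M hM p)

omit [IsNoetherianRing A] [IsProper (X ↘ Spec (CommRingCat.of A))] in
theorem sysMap_eq (n k : ℕ) : Formal2.HHsysMap (Formal.completion I M) n k = Formal.HHmodPowTrans I M n k := by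
  unfold Formal2.HHsysMap Formal.HHmodPowTrans
  rw [completion_map_succ]
  rfl

include hM in
theorem nonempty_equiv (n : ℕ) :
    Nonempty (Coh.HH X (limit (Formal.completion I M)) n ≃+ Formal.HHlim I M n) := by
  have h := isLimH_completion I M hM n
  let φ : Coh.HH X (limit (Formal.completion I M)) n →+ ∀ k, Formal.HHmodPow I M n k :=
    AddMonoidHom.pi (fun k => cmpt (Formal.completion I M) n k)
  have hφ : ∀ x, φ x ∈ Formal.HHlim I M n := fun x k =>
    (congrArg (fun t => t (cmpt (Formal.completion I M) n (k + 1) x)) (sysMap_eq I M n k).symm).trans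
      (sysMap_cmpt (Formal.completion I M) n k x)
  refine ⟨AddEquiv.ofBijective (φ.codRestrict _ hφ) ⟨?_, ?_⟩⟩
  · rw [injective_iff_map_eq_zero]
    intro x hx
    exact h.inj x fun k => congrFun (congrArg Subtype.val hx) k
  · rintro ⟨y, hy⟩
    obtain ⟨x, hx⟩ := h.surj y (fun k => by
      rw [sysMap_eq]
      exact hy k)
    exact ⟨x, Subtype.ext (funext hx)⟩

end K179.LimCoh
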