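import Groth.Agent.CohqA.RpushLoc
import Groth.Agent.CohqB.RelVan
import Groth.Agent.LoccohB.TopRepNat
import Groth.Agent.FormalB.FormalLoc
import Groth.Agent.FormalB.TrKQuot

/-!
# Sections over an affine open of the target of the higher direct images

For `V ⊆ Y` affine, `lhh f V n M : Γ(R^n f_* M, V) ≃+ H^n(f⁻¹ V, M|)`, natural in the quasi-coherent module `M`
and linear.
-/

set_option autoImplicit false
universe u

open CategoryTheory CategoryTheory.Limits AlgebraicGeometry Opposite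

namespace K179.LocHH

open Groth.Agent.CohqA Groth.Agent.LoccohB.TopRepSec

variable {X Y : Scheme.{u}} (f : X ⟶ Y) [QuasiCompact f] [QuasiSeparated f] (V : Y.Opens)

theorem res_smul {Z : Scheme.{u}} (V : Z.Opens) (M : Z.Modules) (r : Γ(V.toScheme, ⊤)) (s : Γ(M, V.ι ''ᵁ ⊤)) :
    (show Γ(M.restrict V.ι, ⊤) from r • (show Γ(M.restrict V.ι, ⊤) from s)) =
      (show Γ(Z, V.ι ''ᵁ ⊤) from r) • s := by
  have h : (V.ι.appIso ⊤).inv r = (show Γ(Z, V.ι ''ᵁ ⊤) from r) := by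
    rw [Scheme.Opens.ι_appIso]; rfl
  exact congrArg (fun t : Γ(Z, V.ι ''ᵁ ⊤) => t • s) h

/-- The restriction of the higher direct image, on sections. -/
noncomputable def rr (n : ℕ) (M : X.Modules) :
    Γ((Coh.Rpush f n).obj M, V.ι ''ᵁ ⊤) ≃+
      Γ((Coh.Rpush (f ∣_ V) n).obj (M.restrict (f ⁻¹ᵁ V).ι), ⊤) where
  toFun s := (RpushLoc.rpushResOpen f V n M).hom.app ⊤ s
  invFun s := (RpushLoc.rpushResOpen f V n M).inv.app ⊤ s
  left_inv s := by
    have h := congrArg (fun t => Scheme.Modules.Hom.app t ⊤ s) (RpushLoc.rpushResOpen f V n M).hom_inv_id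
    exact h
  right_inv s := by
    have h := congrArg (fun t => Scheme.Modules.Hom.app t ⊤ s) (RpushLoc.rpushResOpen f V n M).inv_hom_id
    exact h
  map_add' s t := map_add _ s t

omit [QuasiCompact f] [QuasiSeparated f] in
theorem rr_smul (n : ℕ) (M : X.Modules) (r : Γ(V.toScheme, ⊤))
    (s : Γ((Coh.Rpush f n).obj M, V.ι ''ᵁ ⊤)) :
    rr f V n M ((show Γ(Y, V.ι ''ᵁ ⊤) from r) • s) = r • rr f V n M s :=
  (congrArg ((RpushLoc.rpushResOpen f V n M).hom.app ⊤) (res_smul V _ r s).symm).trans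
    (Scheme.Modules.Hom.app_smul (RpushLoc.rpushResOpen f V n M).hom r s)

omit [QuasiCompact f] [QuasiSeparated f] in
theorem rr_naturality (n : ℕ) {M N : X.Modules} (φ : M ⟶ N) (s : Γ((Coh.Rpush f n).obj M, V.ι ''ᵁ ⊤)) :
    rr f V n N (((Coh.Rpush f n).map φ).app (V.ι ''ᵁ ⊤) s) =
      ((Coh.Rpush (f ∣_ V) n).map ((Scheme.Modules.restrictFunctor (f ⁻¹ᵁ V).ι).map φ)).app ⊤
        (rr f V n M s) := by
  have h := congrArg (fun t => Scheme.Modules.Hom.app t ⊤ s)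
    ((RpushLoc.rpushRes (isPullback_morphismRestrict f V) n).hom.naturality φ)
  exact h


instance quasiCompact_res : QuasiCompact (f ∣_ V) := inferInstance
instance quasiSeparated_res : QuasiSeparated (f ∣_ V) := inferInstance

variable [IsAffine V.toScheme]

/-- Sections over an affine open of the higher direct images. -/
noncomputable def lhh (n : ℕ) (M : X.Modules) (hM : Coh.IsQCoh (M.restrict (f ⁻¹ᵁ V).ι)) :
    Γ((Coh.Rpush f n).obj M, V.ι ''ᵁ ⊤) ≃+ Coh.HH (f ⁻¹ᵁ V).toScheme (M.restrict (f ⁻¹ᵁ V).ι) n :=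
  (rr f V n M).trans (beta (f ∣_ V) n (M.restrict (f ⁻¹ᵁ V).ι) hM)

theorem lhh_smul (n : ℕ) (M : X.Modules) (hM : Coh.IsQCoh (M.restrict (f ⁻¹ᵁ V).ι))
    (r : Γ(V.toScheme, ⊤)) (s : Γ((Coh.Rpush f n).obj M, V.ι ''ᵁ ⊤)) :
    lhh f V n M hM ((show Γ(Y, V.ι ''ᵁ ⊤) from r) • s) =
      (show Coh.Γtop (f ⁻¹ᵁ V).toScheme from (f ∣_ V).appTop r) • lhh f V n M hM s :=
  (congrArg (beta (f ∣_ V) n (M.restrict (f ⁻¹ᵁ V).ι) hM) (rr_smul f V n M r s)).trans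
    (beta_smul (f ∣_ V) n (M.restrict (f ⁻¹ᵁ V).ι) hM r _)

theorem lhh_naturality (n : ℕ) {M N : X.Modules} (hM : Coh.IsQCoh (M.restrict (f ⁻¹ᵁ V).ι))
    (hN : Coh.IsQCoh (N.restrict (f ⁻¹ᵁ V).ι)) (φ : M ⟶ N)
    (s : Γ((Coh.Rpush f n).obj M, V.ι ''ᵁ ⊤)) :
    lhh f V n N hN (((Coh.Rpush f n).map φ).app (V.ι ''ᵁ ⊤) s) =
      Sheaf.H.map ((SheafOfModules.toSheaf (f ⁻¹ᵁ V).toScheme.ringCatSheaf).map
        ((Scheme.Modules.restrictFunctor (f ⁻¹ᵁ V).ι).map φ)) n (lhh f V n M hM s) :=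
  (congrArg (beta (f ∣_ V) n (N.restrict (f ⁻¹ᵁ V).ι) hN) (rr_naturality f V n φ s)).trans
    (beta_naturality (f ∣_ V) n hM hN ((Scheme.Modules.restrictFunctor (f ⁻¹ᵁ V).ι).map φ) _)

end K179.LocHH
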