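import Groth.Agent.FSch.K179.LocHH
import Groth.Agent.FSch.K179.CompSys
import Groth.Agent.Divis.IdealComap
import Groth.Agent.PerfA.QCohSerre

/-!
# Quotients by `𝓘 O_X`, over an affine open of the target
-/

set_option autoImplicit false
universe u

open CategoryTheory CategoryTheory.Limits AlgebraicGeometry Opposite

namespace K179.LocQuot

open Groth.Agent.FormalB.KQuot Groth.Agent.FormalB.TrKQuot Groth.Agent.FormalB.ModPow
open Groth.Agent.Sga2lef.H96.ModSysFormal Groth.Agent.FormalB.ModPowAff Groth.Agent.FormalB.FormalLoc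

variable {X Y : Scheme.{u}} (f : X ⟶ Y) (V : Y.Opens) [IsAffine V.toScheme]

/-- `f⁻¹ V` over the spectrum of `Γ(V)`. -/
noncomputable def ov : (f ⁻¹ᵁ V).toScheme ⟶ Spec (CommRingCat.of Γ(V.toScheme, ⊤)) :=
  (f ∣_ V) ≫ V.toScheme.isoSpec.hom

theorem toGlobal_ov (b : Γ(V.toScheme, ⊤)) :
    Coh.toGlobal (ov f V) b = (show Coh.Γtop (f ⁻¹ᵁ V).toScheme from (f ∣_ V).appTop b) := by
  have h1 : V.toScheme.isoSpec.hom.appTop ((Scheme.ΓSpecIso Γ(V.toScheme, ⊤)).inv b) = b := by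
    have := V.toScheme.toSpecΓ_appTop
    have h2 : V.toScheme.isoSpec.hom.appTop = (Scheme.ΓSpecIso Γ(V.toScheme, ⊤)).hom := by
      rw [Scheme.isoSpec_hom, this]
    rw [h2]
    exact congrArg (fun t => t b) (congrArg (fun t => t.hom) (Scheme.ΓSpecIso Γ(V.toScheme, ⊤)).inv_hom_id)
  have h3 : (ov f V).appTop ((Scheme.ΓSpecIso Γ(V.toScheme, ⊤)).inv b) =
      (f ∣_ V).appTop (V.toScheme.isoSpec.hom.appTop ((Scheme.ΓSpecIso Γ(V.toScheme, ⊤)).inv b)) := by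
    rw [ov, Scheme.Hom.comp_appTop]
    rfl
  rw [h1] at h3
  exact h3


/-- The ideal of `Γ(V)` of an ideal sheaf of `Y`. -/
noncomputable def idl (𝓘 : Y.IdealSheafData) : Ideal Γ(V.toScheme, ⊤) :=
  (𝓘.comap V.ι).ideal ⟨⊤, isAffineOpen_top _⟩

theorem idl_pow (𝓘 : Y.IdealSheafData) (n : ℕ) : idl V (𝓘 ^ n) = idl V 𝓘 ^ n := by
  rw [idl, idl, Groth.Agent.Divis.IdealComap.comap_pow]
  rfl

variable (𝓘 : Y.IdealSheafData)

theorem comap_ideal (W : (f ⁻¹ᵁ V).toScheme.affineOpens) :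
    ((𝓘.comap f).comap (f ⁻¹ᵁ V).ι).ideal W =
      (idl V 𝓘).map ((f ∣_ V).appLE ⊤ W.1 le_top).hom := by
  rw [← Scheme.IdealSheafData.comap_comp, ← morphismRestrict_ι, Scheme.IdealSheafData.comap_comp]
  exact Groth.Agent.Divis.IdealComap.ideal_comap _ (f ∣_ V) ⟨⊤, isAffineOpen_top _⟩ W le_top


omit [IsAffine V.toScheme] in
theorem res_smul' {Z : Scheme.{u}} (U : Z.Opens) (M : Z.Modules) (W : U.toScheme.Opens)
    (r : Γ(U.toScheme, W)) (s : Γ(M.restrict U.ι, W)) :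
    (show Γ(M, U.ι ''ᵁ W) from (r • s : Γ(M.restrict U.ι, W))) =
      (show Γ(Z, U.ι ''ᵁ W) from r) • (show Γ(M, U.ι ''ᵁ W) from s) := by
  have h : (U.ι.appIso W).inv r = (show Γ(Z, U.ι ''ᵁ W) from r) := by
    rw [Scheme.Opens.ι_appIso]; rfl
  exact congrArg (fun t : Γ(Z, U.ι ''ᵁ W) => t • (show Γ(M, U.ι ''ᵁ W) from s)) h

theorem mem_smul_iff {Z : Scheme.{u}} (U : Z.Opens) (M : Z.Modules) (W : U.toScheme.Opens)
    (J : Ideal Γ(Z, U.ι ''ᵁ W)) (J' : Ideal Γ(U.toScheme, W))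
    (hJ : ∀ a : Γ(Z, U.ι ''ᵁ W), a ∈ J ↔ (show Γ(U.toScheme, W) from a) ∈ J') (s : Γ(M, U.ι ''ᵁ W)) :
    s ∈ J • (⊤ : Submodule Γ(Z, U.ι ''ᵁ W) Γ(M, U.ι ''ᵁ W)) ↔
      (show Γ(M.restrict U.ι, W) from s) ∈
        J' • (⊤ : Submodule Γ(U.toScheme, W) Γ(M.restrict U.ι, W)) := by
  constructor
  · intro h
    refine Submodule.smul_induction_on (p := fun t : Γ(M, U.ι ''ᵁ W) =>
      (show Γ(M.restrict U.ι, W) from t) ∈ J' • (⊤ : Submodule Γ(U.toScheme, W) Γ(M.restrict U.ι, W))) h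
      (fun a ha m _ => ?_) (fun x y hx hy => Submodule.add_mem _ hx hy)
    have e := res_smul' U M W (show Γ(U.toScheme, W) from a) (show Γ(M.restrict U.ι, W) from m)
    have h2 : (show Γ(U.toScheme, W) from a) • (show Γ(M.restrict U.ι, W) from m) ∈
        J' • (⊤ : Submodule Γ(U.toScheme, W) Γ(M.restrict U.ι, W)) :=
      Submodule.smul_mem_smul ((hJ a).1 ha) trivial
    exact (congrArg (fun t : Γ(M, U.ι ''ᵁ W) => (show Γ(M.restrict U.ι, W) from t) ∈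
      J' • (⊤ : Submodule Γ(U.toScheme, W) Γ(M.restrict U.ι, W))) e).mp h2
  · intro h
    refine Submodule.smul_induction_on (p := fun t : Γ(M.restrict U.ι, W) =>
      (show Γ(M, U.ι ''ᵁ W) from t) ∈ J • (⊤ : Submodule Γ(Z, U.ι ''ᵁ W) Γ(M, U.ι ''ᵁ W))) h
      (fun a ha m _ => ?_) (fun x y hx hy => Submodule.add_mem _ hx hy)
    have e := res_smul' U M W a m
    have h2 : (show Γ(Z, U.ι ''ᵁ W) from a) • (show Γ(M, U.ι ''ᵁ W) from m) ∈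
        J • (⊤ : Submodule Γ(Z, U.ι ''ᵁ W) Γ(M, U.ι ''ᵁ W)) :=
      Submodule.smul_mem_smul ((hJ _).2 ha) trivial
    exact (congrArg (fun t : Γ(M, U.ι ''ᵁ W) => t ∈
      J • (⊤ : Submodule Γ(Z, U.ι ''ᵁ W) Γ(M, U.ι ''ᵁ W))) e).mpr h2


theorem toΓ_ov (W : (f ⁻¹ᵁ V).toScheme.Opens) :
    letI : (f ⁻¹ᵁ V).toScheme.Over (Spec (CommRingCat.of Γ(V.toScheme, ⊤))) := ⟨ov f V⟩
    toΓ Γ(V.toScheme, ⊤) (f ⁻¹ᵁ V).toScheme W = ((f ∣_ V).appLE ⊤ W le_top).hom := by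
  let _ : (f ⁻¹ᵁ V).toScheme.Over (Spec (CommRingCat.of Γ(V.toScheme, ⊤))) := ⟨ov f V⟩
  ext b
  have h := toGlobal_ov f V b
  refine (congrArg (resΓ (f ⁻¹ᵁ V).toScheme W) h).trans ?_
  rfl

theorem isModPow_res {F N : X.Modules} (hF : Coh.IsQCoh F) (hN : Coh.IsQCoh N) {k : ℕ} {p : F ⟶ N}
    (hp : IsKQuot ((𝓘.comap f) ^ (k + 1)) p) :
    letI : (f ⁻¹ᵁ V).toScheme.Over (Spec (CommRingCat.of Γ(V.toScheme, ⊤))) := ⟨ov f V⟩
    IsModPow (idl V 𝓘 ^ (k + 1)) ((Scheme.Modules.restrictFunctor (f ⁻¹ᵁ V).ι).map p) := by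
  let _ : (f ⁻¹ᵁ V).toScheme.Over (Spec (CommRingCat.of Γ(V.toScheme, ⊤))) := ⟨ov f V⟩
  refine isModPow_of_cover (Groth.Agent.PerfA.QCohSerre.isQCoh_restrict _ hF)
    (Groth.Agent.PerfA.QCohSerre.isQCoh_restrict _ hN) _ fun x => ?_
  obtain ⟨W, hW, hxW, -⟩ := exists_isAffineOpen_mem_and_subset (x := x) (U := ⊤) trivial
  refine ⟨W, hxW, hW, Groth.Agent.FormalB.TrKQuot.IsKQuot.app_surjective hp hF
    (hW.image_of_isOpenImmersion (f ⁻¹ᵁ V).ι), fun m => ?_⟩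
  refine (Groth.Agent.FormalB.TrKQuot.IsKQuot.app_eq_zero_iff hp hF
    ⟨_, hW.image_of_isOpenImmersion (f ⁻¹ᵁ V).ι⟩ m).trans ?_
  refine mem_smul_iff (f ⁻¹ᵁ V) F W _ _ (fun a => ?_) m
  have h1 : (((𝓘.comap f) ^ (k + 1)).comap (f ⁻¹ᵁ V).ι).ideal ⟨W, hW⟩ =
      (idl V 𝓘 ^ (k + 1)).map (toΓ Γ(V.toScheme, ⊤) (f ⁻¹ᵁ V).toScheme W) := by
    rw [toΓ_ov, ← idl_pow, ← Groth.Agent.Divis.IdealComap.comap_pow _ f]
    exact comap_ideal f V (𝓘 ^ (k + 1)) ⟨W, hW⟩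
  rw [← h1, Scheme.IdealSheafData.ideal_comap_of_isOpenImmersion, Ideal.mem_comap]
  have h2 : ((f ⁻¹ᵁ V).ι.appIso W).inv.hom (show Γ((f ⁻¹ᵁ V).toScheme, W) from a) = a := by
    rw [Scheme.Opens.ι_appIso]; rfl
  rw [h2]

end K179.LocQuot
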