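import Groth.Agent.FSch.K179.AlgzKer
import Mathlib.RingTheory.Spectrum.Prime.Topology

/-!
# Injectivity and surjectivity of a morphism versus its completion (`S13651` modulo the interface)
-/

set_option autoImplicit false
universe v u

open CategoryTheory CategoryTheory.Limits AlgebraicGeometry Opposite

namespace K179.MonoEpi

open FSch K179.Iface K179.RealMod K179.Algz K179.AlgzKer
open Groth.Agent

variable {A : Type u} [CommRing A] {X : Scheme.{u}}

/-- The support of `idealSpec A J` contains `V(J)`. -/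
theorem mem_support_idealSpec (J : Ideal A) (m : Spec (CommRingCat.of A)) (h : J ≤ m.asIdeal) :
    m ∈ (idealSpec A J).support := by
  unfold idealSpec
  have h1 : m ∈ (↑((Spec.map (CommRingCat.ofHom (Ideal.Quotient.mk J))).ker.support) :
      Set (Spec (CommRingCat.of A))) := by
    rw [Scheme.Hom.support_ker]
    apply subset_closure
    have h2 : m ∈ Set.range (PrimeSpectrum.comap (Ideal.Quotient.mk J)) := by
      rw [range_comap_of_surjective _ _ Ideal.Quotient.mk_surjective, Ideal.mk_ker]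
      exact h
    obtain ⟨y, hy⟩ := h2
    exact ⟨y, hy⟩
  exact h1

/-- A nonempty closed subset of `Spec A` meets `V(J)` when `A` is `J`-adically complete. -/
theorem exists_mem_of_isClosed (J : Ideal A) [IsAdicComplete J A] (Z : Set (Spec (CommRingCat.of A)))
    (hZ : IsClosed Z) (hne : Z.Nonempty) : ∃ m ∈ Z, J ≤ PrimeSpectrum.asIdeal m := by
  obtain ⟨p, hp⟩ := hne
  obtain ⟨M, hM, hle⟩ := Ideal.exists_le_maximal p.asIdeal p.isPrime.ne_top
  refine ⟨⟨M, hM.isPrime⟩, ?_, ?_⟩
  · have h1 : (p : Spec (CommRingCat.of A)) ⤳ (⟨M, hM.isPrime⟩ : PrimeSpectrum A) :=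
      (PrimeSpectrum.le_iff_specializes _ _).1 hle
    exact h1.mem_closed hZ hp
  · refine (IsAdicComplete.le_jacobson_bot J).trans ?_
    exact sInf_le ⟨bot_le, hM⟩

variable (f : X ⟶ Spec (CommRingCat.of A)) (hf : IsClosedMap f.base) (J : Ideal A) [IsAdicComplete J A]
  {𝓘 : X.IdealSheafData} (h𝓘 : 𝓘 = (FSch.idealSpec A J).comap f)

include hf h𝓘 in
/-- Closed subsets of `X` meet the closed subset of the completion. -/
theorem exists_mem_range (Z : Set X) (hZ : IsClosed Z) (hne : Z.Nonempty) (n : ℕ) :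
    ∃ y : (completionAlong X 𝓘).X n, (completionToX X 𝓘 n).base y ∈ Z := by
  obtain ⟨m, ⟨x, hxZ, rfl⟩, hm⟩ := exists_mem_of_isClosed J (f.base '' Z) (hf Z hZ) (hne.image _)
  have h1 : f.base x ∈ (idealSpec A J).support := mem_support_idealSpec J _ hm
  have h2 : x ∈ 𝓘.support := by
    rw [h𝓘, Scheme.IdealSheafData.support_comap]
    exact h1
  have h3 : x ∈ Set.range (𝓘 ^ (n + 1)).subschemeι := by
    rw [Scheme.IdealSheafData.range_subschemeι, Scheme.IdealSheafData.support_pow_succ]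
    exact h2
  obtain ⟨y, hy⟩ := h3
  refine ⟨y, ?_⟩
  have : (completionToX X 𝓘 n).base y = x := hy
  rw [this]
  exact hxZ

include hf h𝓘 in
/-- A coherent module with zero completion is zero. -/
theorem isZero_of_isZero_hat (h36 : P13336.{u}) [IsLocallyNoetherian X]
    (hX : (completionAlong X 𝓘).IsFormal) {G : X.Modules} (hG : Coh.IsCoh G)
    (hz : IsZero (hat 𝓘 hX G)) : IsZero G := by
  have h𝔛 : (completionAlong X 𝓘).IsLocNoethFormal := S3854.result X 𝓘
  apply CohqB.DevSupport.isZero_of_support_eq_empty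
  by_contra hne
  obtain ⟨y, hy⟩ := exists_mem_range f hf J h𝓘 (CohB1.support G) (Ega3B.Devissage.isClosed_support hG)
    (Set.nonempty_iff_ne_empty.2 hne) 0
  have h1 := support_level_algz h36 h𝔛 hG (Iso.refl ((complMod 𝓘 G).realMod h𝔛.1)) 0
  have h2 : IsZero ((levelMor (completionAlong X 𝓘) h𝔛.1 0).pull.obj ((complMod 𝓘 G).realMod h𝔛.1)) :=
    Functor.map_isZero (levelMor (completionAlong X 𝓘) h𝔛.1 0).pull hz
  have h3 : CohB1.support (X := (completionAlong X 𝓘).X 0)
      ((levelMor (completionAlong X 𝓘) h𝔛.1 0).pull.obj ((complMod 𝓘 G).realMod h𝔛.1)) = ∅ :=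
    CohqB.DevSupport.support_eq_empty_of_isZero (X := (completionAlong X 𝓘).X 0) h2
  rw [h3] at h1
  have h4 : y ∈ (∅ : Set ((completionAlong X 𝓘).X 0)) := by
    rw [h1]
    exact hy
  exact h4

include hf h𝓘 in
/-- `S13651` modulo `S13336`, `S13340` (the properness hypothesis is not needed). -/
theorem mono_epi_iff (h36 : P13336.{u}) (h40 : P13340.{u}) [IsLocallyNoetherian X]
    (hX : (completionAlong X 𝓘).IsFormal) {F G : X.Modules} (hF : Coh.IsCoh F) (hG : Coh.IsCoh G)
    (v : F ⟶ G) : (Mono (hatMap (𝓘 := 𝓘) hX v) ↔ Mono v) ∧ (Epi (hatMap (𝓘 := 𝓘) hX v) ↔ Epi v) := by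
  have hK := Sga67.CohBasic.isCoh_kernel v hF hG.1
  have hC := Sga67.CohBasic.isCoh_cokernel v hF.1 hG
  obtain ⟨⟨k⟩, -, ⟨c⟩⟩ := hat_kernel_image_cokernel hX h40 hF hG v (hatMap (𝓘 := 𝓘) hX v) (Iso.refl _)
    (Iso.refl _) (by simp)
  refine ⟨⟨fun h => ?_, fun h => ?_⟩, ⟨fun h => ?_, fun h => ?_⟩⟩
  · have h1 : IsZero (hat 𝓘 hX (kernel v)) := (isZero_kernel_of_mono (hatMap (𝓘 := 𝓘) hX v)).of_iso k.symm
    exact Preadditive.mono_of_isZero_kernel _ (isZero_of_isZero_hat f hf J h𝓘 h36 hX hK h1)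
  · have h1 : (ShortComplex.mk v (cokernel.π v) (cokernel.condition v)).ShortExact :=
      { exact := ShortComplex.exact_of_g_is_cokernel _ (cokernelIsCokernel v)
        mono_f := h
        epi_g := inferInstanceAs (Epi (cokernel.π v)) }
    obtain ⟨a0, a⟩ := h40 X 𝓘 hX _ h1 hF hG hC
    exact (a a0).mono_f
  · have h1 : IsZero (hat 𝓘 hX (cokernel v)) := (isZero_cokernel_of_epi (hatMap (𝓘 := 𝓘) hX v)).of_iso c.symm
    exact Preadditive.epi_of_isZero_cokernel _ (isZero_of_isZero_hat f hf J h𝓘 h36 hX hC h1)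
  · have h1 : (ShortComplex.mk (kernel.ι v) v (kernel.condition v)).ShortExact :=
      { exact := ShortComplex.exact_of_f_is_kernel _ (kernelIsKernel v)
        mono_f := inferInstanceAs (Mono (kernel.ι v))
        epi_g := h }
    obtain ⟨a0, a⟩ := h40 X 𝓘 hX _ h1 hK hF hG
    exact (a a0).epi_g

end K179.MonoEpi
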