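import Groth.Agent.FSch.K179.CompSys
import Groth.Agent.FormalB.LimAff

/-!
# Sections over affine opens of the limit of a system of modules

`𝔐` a system of modules on the completion of `X` along `𝓘`, with quasi-coherent levels, `U` affine with `𝓘(U)`
finitely generated: the projections from `lim_k 𝔐_k` are onto on sections over `U`, with kernel `𝓘(U)^(n+1)`.
Maps from `lim_k G/𝓘^(k+1)G` to a module killed by a power of `𝓘` are determined on `G` (`hom_ext_kap`).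
-/

set_option autoImplicit false
universe u

open CategoryTheory CategoryTheory.Limits AlgebraicGeometry Opposite

namespace K179.SysAff

open FSch K179.CompSys
open Groth.Agent.Sga2lef.H96.ModSysRec Groth.Agent.Sga2lef.H96.ModSysPush
open Groth.Agent.FormalB.KQuot Groth.Agent.FormalB.TrKQuot Groth.Agent.FormalB.LimAff Groth.Agent.FormalB

variable {X : Scheme.{u}} {𝓘 : X.IdealSheafData}

section

variable (𝔐 : ModSys (completionAlong X 𝓘)) (hq : ∀ k, Coh.IsQCoh (pm 𝔐 k)) {U : X.Opens}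
  (hU : IsAffineOpen U)

include hq hU

theorem surj_trans (k : ℕ) : Function.Surjective (transL (toSys 𝔐) U k) := by
  have h1 : (toSys 𝔐).map (homOfLE (Nat.le_succ k)).op = ptr 𝔐 k := toSys_map_succ 𝔐 k
  intro y
  obtain ⟨x, hx⟩ := IsKQuot.app_surjective (isKQuot_ptr 𝔐 k) (hq (k + 1)) hU y
  exact ⟨x, (congrArg (fun t => Scheme.Modules.Hom.app t U x) h1).trans hx⟩

theorem ker_trans (k : ℕ) : LinearMap.ker (transL (toSys 𝔐) U k) =
    (𝓘.ideal ⟨U, hU⟩) ^ (k + 1) • (⊤ : Submodule Γ(X, U) Γ((toSys 𝔐).obj (op (k + 1)), U)) := by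
  have h1 : (toSys 𝔐).map (homOfLE (Nat.le_succ k)).op = ptr 𝔐 k := toSys_map_succ 𝔐 k
  ext m
  have h2 : transL (toSys 𝔐) U k m = (ptr 𝔐 k).app U m :=
    congrArg (fun t => Scheme.Modules.Hom.app t U m) h1
  rw [LinearMap.mem_ker, h2]
  exact IsKQuot.app_eq_zero_iff (isKQuot_ptr 𝔐 k) (hq (k + 1)) ⟨U, hU⟩ m

theorem π_surjective (n : ℕ) : Function.Surjective ((limit.π (toSys 𝔐) (op n)).app U) := by
  intro m
  obtain ⟨x, hx, hm⟩ := LimSys.exists_lift n (fun k => Γ((toSys 𝔐).obj (op k), U)) (transL (toSys 𝔐) U)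
    (fun k => surj_trans 𝔐 hq hU k) m
  obtain ⟨y, hy⟩ := SysSect.exists_limit_section (toSys 𝔐) U x hx
  exact ⟨y, (hy n).trans hm⟩

theorem mem_of_π_eq_zero (hI : (𝓘.ideal ⟨U, hU⟩).FG) (n : ℕ) (s : Γ(limit (toSys 𝔐), U))
    (hs : (limit.π (toSys 𝔐) (op n)).app U s = 0) :
    s ∈ (𝓘.ideal ⟨U, hU⟩) ^ (n + 1) • (⊤ : Submodule Γ(X, U) Γ(limit (toSys 𝔐), U)) := by
  obtain ⟨r, g, hg⟩ := Submodule.fg_iff_exists_fin_generating_family.mp (Ideal.FG.pow (n := n + 1) hI)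
  have hg' : Ideal.span (Set.range g) = (𝓘.ideal ⟨U, hU⟩) ^ (n + 1) := hg
  have hgm : ∀ j, g j ∈ (𝓘.ideal ⟨U, hU⟩) ^ (n + 1) := fun j => hg' ▸ Ideal.subset_span ⟨j, rfl⟩
  obtain ⟨y, hy, hxy⟩ := LimSys.mem_smul_lim (𝓘.ideal ⟨U, hU⟩)
    (M := fun k => Γ((toSys 𝔐).obj (op k), U))
    (f := transL (toSys 𝔐) U) (fun k => surj_trans 𝔐 hq hU k) (fun k => ker_trans 𝔐 hq hU k) g hg'
    (fun k => (limit.π (toSys 𝔐) (op k)).app U s) (mem_lim_π U s) hs
  have hz : ∀ j, ∃ z : Γ(limit (toSys 𝔐), U), ∀ k, (limit.π (toSys 𝔐) (op k)).app U z = y j k := fun j =>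
    SysSect.exists_limit_section (toSys 𝔐) U (y j) (hy j)
  choose z hz using hz
  have key : s = ∑ j, g j • z j := by
    apply SysSect.limit_section_ext
    intro k
    rw [map_sum]
    refine (congr_fun hxy k).trans ?_
    rw [Finset.sum_apply]
    refine Finset.sum_congr rfl fun j _ => ?_
    rw [Scheme.Modules.Hom.app_smul, hz]
    rfl
  rw [key]
  exact Submodule.sum_mem _ fun j _ => Submodule.smul_mem_smul (hgm j) Submodule.mem_top

end

section Kap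

variable (𝓘) (G : X.Modules)

/-- The map `G ⟶ lim_k G/𝓘^(k+1)G`. -/
noncomputable def kap : G ⟶ limit (toSys (complMod 𝓘 G)) :=
  limit.lift (toSys (complMod 𝓘 G)) ⟨G, NatTrans.ofOpSequence (F := (Functor.const ℕᵒᵖ).obj G)
    (G := toSys (complMod 𝓘 G)) (fun k => un 𝓘 G k) fun k =>
      (Category.id_comp _).trans (un_toSys 𝓘 G k).symm⟩

@[reassoc]
theorem kap_π (k : ℕ) : kap 𝓘 G ≫ limit.π (toSys (complMod 𝓘 G)) (op k) = un 𝓘 G k :=
  limit.lift_π (F := toSys (complMod 𝓘 G)) _ _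

variable [IsLocallyNoetherian X] {𝓘 G}

/-- A map from the completion to a module killed by `𝓘^(n+1)` which vanishes on `G` vanishes. -/
theorem eq_zero_of_kap (hG : Coh.IsQCoh G) {N : X.Modules} (n : ℕ) (hN : ClSub.KilledByIdeal (𝓘 ^ (n + 1)) N)
    (δ : limit (toSys (complMod 𝓘 G)) ⟶ N) (h : kap 𝓘 G ≫ δ = 0) : δ = 0 := by
  have hq : ∀ k, Coh.IsQCoh (pm (complMod 𝓘 G) k) := fun k => IsKQuot.isQCoh (isKQuot_un 𝓘 hG k) hG
  refine SysSect.hom_eq_zero_of_affine δ fun U hU m => ?_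
  have hfg : (𝓘.ideal ⟨U, hU⟩).FG :=
    (isNoetherianRing_iff_ideal_fg _).1 (IsLocallyNoetherian.component_noetherian ⟨U, hU⟩) _
  obtain ⟨y, hy⟩ := IsKQuot.app_surjective (isKQuot_un 𝓘 hG n) hG hU
    ((limit.π (toSys (complMod 𝓘 G)) (op n)).app U m)
  have h1 : (limit.π (toSys (complMod 𝓘 G)) (op n)).app U (m - (kap 𝓘 G).app U y) = 0 := by
    rw [map_sub, sub_eq_zero, ← hy]
    exact (congrArg (fun t => Scheme.Modules.Hom.app t U y) (kap_π 𝓘 G n)).symm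
  have h2 := mem_of_π_eq_zero (complMod 𝓘 G) hq hU hfg n _ h1
  have h3 : δ.app U (m - (kap 𝓘 G).app U y) = 0 := by
    refine Submodule.smul_induction_on (p := fun z => δ.app U z = 0) h2 (fun a ha z _ => ?_)
      (fun x z hx hz => ?_)
    · rw [Scheme.Modules.Hom.app_smul]
      exact hN ⟨U, hU⟩ a ha _
    · rw [map_add, hx, hz, add_zero]
  have h4 : δ.app U ((kap 𝓘 G).app U y) = 0 := congrArg (fun t => Scheme.Modules.Hom.app t U y) h
  rw [map_sub, h4, sub_zero] at h3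
  exact h3

theorem hom_ext_kap (hG : Coh.IsQCoh G) {N : X.Modules} (n : ℕ) (hN : ClSub.KilledByIdeal (𝓘 ^ (n + 1)) N)
    (δ δ' : limit (toSys (complMod 𝓘 G)) ⟶ N) (h : kap 𝓘 G ≫ δ = kap 𝓘 G ≫ δ') : δ = δ' := by
  rw [← sub_eq_zero]
  refine eq_zero_of_kap hG n hN _ ?_
  rw [Preadditive.comp_sub, h, sub_self]

/-- Maps into an inverse system whose terms are killed by the powers of `𝓘`. -/
theorem hom_ext_kap_lim (hG : Coh.IsQCoh G) {T : ℕᵒᵖ ⥤ X.Modules}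
    (hT : ∀ n : ℕ, ClSub.KilledByIdeal (𝓘 ^ (n + 1)) (T.obj (op n)))
    (δ δ' : limit (toSys (complMod 𝓘 G)) ⟶ limit T)
    (h : ∀ n : ℕ, kap 𝓘 G ≫ δ ≫ limit.π T (op n) = kap 𝓘 G ≫ δ' ≫ limit.π T (op n)) : δ = δ' :=
  limit.hom_ext fun n => hom_ext_kap hG n.unop (hT n.unop) _ _ (h n.unop)

end Kap

end K179.SysAff
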